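import Cfsg.Agent.Lib.Star.Primitive
import Cfsg.Agent.Lib.BrauerPairs.Abstract
import Cfsg.Agent.Lib.BrauerPairs.Lift
import Mathlib.Algebra.Group.Pointwise.Set.Basic
import Mathlib.GroupTheory.Sylow

/-!
# Primitive idempotents for an elementary group `R S`

For `i` primitive in the fixed algebra of `R ⊔ S` (`S` a `p'`-subgroup centralising the `p`-group `R`):

* if `br R i ≠ 0`, one block `f` of `C(R)` absorbs `br R i`, and for `Q ≤ R` the subpair at `Q` of
  `(R, f)` absorbs `br Q i` (`exists_block_of_br_ne_zero`, `br_mul_subpair`);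
* if `br R i = 0`, `i` is a relative trace from `M₀ ⊔ S`, `M₀` maximal in `R`, and `br u i = 0` outside
  `M₀` (`exists_relTr_of_br_eq_zero`).
-/

set_option autoImplicit false
set_option linter.unusedSectionVars false
set_option linter.style.haveILetI false

namespace Cfsg.Agent.Star

open Cfsg MonoidAlgebra
open Agent.Blocks
open Cfsg.Agent.BrauerPairs (fixedBy conjEl relTr br mem_fixedBy_iff_coeff fixedBy_anti coeff_conjEl
  coeff_br coeff_br_of_mem coeff_br_of_notMem br_mul br_br IsBlockIdem HasBlocks IsPair PLE Step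
  centerIn_commute br_mem_fixedBy exists_ple ple_unique)
open scoped Classical Cfsg.Agent.Blocks Pointwise

universe u

section Elem

variable {G : Type u} [Group G] [Finite G] {p : ℕ} [Fact p.Prime] {R S : Subgroup G}

/-- An elementary pair: a `p`-group and a `p'`-group centralising it. -/
structure IsElem (p : ℕ) (R S : Subgroup G) : Prop where
  pR : IsPGroup p R
  pS : ¬ p ∣ Nat.card S
  cent : S ≤ Subgroup.centralizer (R : Set G)

theorem IsElem.commute (h : IsElem p R S) {r s : G} (hr : r ∈ R) (hs : s ∈ S) : Commute r s :=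
  Subgroup.mem_centralizer_iff.1 (h.cent hs) r hr

theorem IsElem.mono (h : IsElem p R S) {R₀ : Subgroup G} (hle : R₀ ≤ R) : IsElem p R₀ S :=
  ⟨h.pR.to_le hle, h.pS, h.cent.trans (Subgroup.centralizer_le hle)⟩

theorem IsElem.mem_sup (h : IsElem p R S) {x : G} :
    x ∈ R ⊔ S ↔ ∃ r ∈ R, ∃ s ∈ S, r * s = x := by
  constructor
  · intro hx
    have hn : S ≤ Subgroup.normalizer (R : Set G) :=
      h.cent.trans (Subgroup.centralizer_le_normalizer _)
    have hx' : x ∈ ((R : Set G) * (S : Set G)) := by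
      rw [← Subgroup.coe_mul_of_right_le_normalizer_left R S hn]
      exact hx
    exact Set.mem_mul.1 hx'
  · rintro ⟨r, hr, s, hs, rfl⟩
    exact mul_mem (Subgroup.mem_sup_left hr) (Subgroup.mem_sup_right hs)

theorem IsElem.isPPart (h : IsElem p R S) {r s : G} (hr : r ∈ R) (hs : s ∈ S) :
    IsPPart p (r * s) r := by
  refine isPPart_mul (h.commute hr hs) ?_ fun hd => h.pS (hd.trans ?_)
  · obtain ⟨k, hk⟩ := IsPGroup.iff_orderOf.1 h.pR ⟨r, hr⟩
    exact ⟨k, by rw [← hk, Subgroup.orderOf_mk]⟩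
  · exact (Subgroup.orderOf_mk s hs) ▸ orderOf_dvd_natCard (⟨s, hs⟩ : S)

theorem IsElem.eq_of_mul_eq (h : IsElem p R S) {r s r' s' : G} (hr : r ∈ R) (hs : s ∈ S)
    (hr' : r' ∈ R) (hs' : s' ∈ S) (he : r * s = r' * s') : r = r' ∧ s = s' := by
  have h1 : r = r' := IsPPart.unique (he ▸ h.isPPart hr hs) (h.isPPart hr' hs')
  subst h1
  exact ⟨rfl, mul_left_cancel he⟩

theorem IsElem.card_sup (h : IsElem p R S) : Nat.card (R ⊔ S : Subgroup G) = Nat.card R * Nat.card S := by
  rw [← Nat.card_prod]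
  refine (Nat.card_congr (Equiv.ofBijective
    (fun x : R × S => (⟨(x.1 : G) * x.2, h.mem_sup.2 ⟨_, x.1.2, _, x.2.2, rfl⟩⟩ : (R ⊔ S : Subgroup G)))
    ⟨?_, ?_⟩)).symm
  · rintro ⟨r, s⟩ ⟨r', s'⟩ he
    obtain ⟨h1, h2⟩ := h.eq_of_mul_eq r.2 s.2 r'.2 s'.2 (congrArg Subtype.val he :)
    exact Prod.ext (Subtype.ext h1) (Subtype.ext h2)
  · rintro ⟨x, hx⟩
    obtain ⟨r, hr, s, hs, rfl⟩ := h.mem_sup.1 hx
    exact ⟨(⟨r, hr⟩, ⟨s, hs⟩), rfl⟩

theorem IsElem.mem_left (h : IsElem p R S) {R₀ : Subgroup G} (hle : R₀ ≤ R) {x : G} (hxR : x ∈ R)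
    (hx : x ∈ R₀ ⊔ S) : x ∈ R₀ := by
  obtain ⟨r, hr, s, hs, rfl⟩ := (h.mono hle).mem_sup.1 hx
  obtain ⟨h1, -⟩ := h.eq_of_mul_eq hxR (one_mem S) (hle hr) hs (mul_one _)
  rwa [h1]

theorem IsElem.le_normalizer_sup (h : IsElem p R S) {R₀ : Subgroup G} (hle : R₀ ≤ R)
    (hn : R ≤ Subgroup.normalizer (R₀ : Set G)) :
    R ⊔ S ≤ Subgroup.normalizer ((R₀ ⊔ S : Subgroup G) : Set G) := by
  refine sup_le (fun r hr => ?_) ((le_sup_right : S ≤ R₀ ⊔ S).trans Subgroup.le_normalizer)
  refine BrauerPairs.mem_normalizer_of_conj_le fun x hx => ?_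
  obtain ⟨a, ha, s, hs, rfl⟩ := (h.mono hle).mem_sup.1 hx
  refine (h.mono hle).mem_sup.2 ⟨r * a * r⁻¹, (Subgroup.mem_normalizer_iff.1 (hn hr) a).1 ha, s, hs, ?_⟩
  calc r * a * r⁻¹ * s = r * a * (r⁻¹ * s) := by group
    _ = r * a * (s * r⁻¹) := by rw [(h.commute (inv_mem hr) hs).eq]
    _ = r * (a * s) * r⁻¹ := by group

/-- A maximal subgroup of a `p`-group above a proper subgroup. -/
theorem exists_maximal_above (hR : IsPGroup p R) {T : Subgroup G} (hT : T < R) :
    ∃ M₀ : Subgroup G, T ≤ M₀ ∧ M₀ ≤ R ∧ R ≤ Subgroup.normalizer (M₀ : Set G) ∧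
      Nat.card M₀ * p = Nat.card R := by
  obtain ⟨n, hn⟩ := IsPGroup.iff_card.1 hR
  obtain ⟨m, hm⟩ := IsPGroup.iff_card.1 (hR.to_le hT.le)
  have hlt : Nat.card T < Nat.card R :=
    lt_of_le_of_ne (Subgroup.card_le_of_le hT.le) fun e =>
      hT.ne (Subgroup.eq_of_le_of_card_ge hT.le e.ge)
  rw [hn, hm] at hlt
  have hmn : m < n := (Nat.pow_lt_pow_iff_right (Fact.out : p.Prime).one_lt).1 hlt
  have hT' : Nat.card (T.subgroupOf R) = p ^ m := by
    rw [Nat.card_congr (Subgroup.subgroupOfEquivOfLe hT.le).toEquiv, hm]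
  obtain ⟨K, hK, hTK⟩ := Sylow.exists_subgroup_card_pow_prime_le p (m := n - 1)
    (by rw [hn]; exact pow_dvd_pow p (Nat.sub_le n 1)) (T.subgroupOf R) hT' (by omega)
  have hKi : K.index = p := by
    have := Subgroup.card_mul_index K
    rw [hK, hn, ← Nat.sub_add_cancel (by omega : 1 ≤ n), pow_succ, Nat.add_sub_cancel] at this
    exact Nat.eq_of_mul_eq_mul_left (pow_pos (Fact.out : p.Prime).pos _) this
  have hnormal : K.Normal := by
    refine Subgroup.normal_of_index_eq_minFac_card ?_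
    rw [hKi, hn, Nat.pow_minFac (by omega), (Fact.out : p.Prime).minFac_eq]
  refine ⟨K.map R.subtype, fun x hx => ⟨⟨x, hT.le hx⟩, hTK hx, rfl⟩, Subgroup.map_subtype_le K, ?_, ?_⟩
  · refine fun r hr => BrauerPairs.mem_normalizer_of_conj_le ?_
    rintro _ ⟨k, hk, rfl⟩
    exact ⟨⟨r, hr⟩ * k * ⟨r, hr⟩⁻¹, hnormal.conj_mem k hk ⟨r, hr⟩, rfl⟩
  · rw [Subgroup.card_map_of_injective R.subtype_injective, hK, hn, ← pow_succ,
      Nat.sub_add_cancel (by omega : 1 ≤ n)]

end Elem

section Alg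

variable {M : Ideal AlgInt} [M.IsMaximal] {G : Type u} [Group G] [Finite G] {p : ℕ} [hp : Fact p.Prime]
  [CharP (AlgInt ⧸ M) p] {R S : Subgroup G} {i f : MonoidAlgebra (AlgInt ⧸ M) G}

theorem fixedBy_sup {K : Type*} [CommRing K] (hE : IsElem p R S) {a : MonoidAlgebra K G}
    (hR : a ∈ fixedBy K R) (hS : a ∈ fixedBy K S) : a ∈ fixedBy K (R ⊔ S) := by
  intro x hx
  obtain ⟨r, hr, s, hs, rfl⟩ := hE.mem_sup.1 hx
  rw [BrauerPairs.conjEl_mul, hS s hs, hR r hr]

theorem inCorner_mul_mul {H : Subgroup G} {a : MonoidAlgebra (AlgInt ⧸ M) G} (hi : IsPrim H i)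
    (ha : a ∈ fixedBy (AlgInt ⧸ M) H) : InCorner H i (i * a * i) :=
  ⟨mul_mem (mul_mem hi.1 ha) hi.1, by rw [← mul_assoc, ← mul_assoc, hi.2.1],
    by rw [mul_assoc (i * a) i i, hi.2.1]⟩

theorem block_mem_fixedBy (hE : IsElem p R S) {Q : Subgroup G} (hQ : Q ≤ R) {f' : MonoidAlgebra (AlgInt ⧸ M) G}
    (hf : IsBlockIdem (Subgroup.centralizer (Q : Set G)) f') : f' ∈ fixedBy (AlgInt ⧸ M) S :=
  fixedBy_anti (hE.cent.trans (Subgroup.centralizer_le hQ)) hf.mem.2

/-- One block of `C(R)` absorbs `br R i`. -/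
theorem exists_block_of_br_ne_zero (hE : IsElem p R S) (hi : IsPrim (R ⊔ S) i) (h0 : br R i ≠ 0) :
    ∃ f, IsBlockIdem (Subgroup.centralizer (R : Set G)) f ∧ br R i * f = br R i := by
  obtain ⟨s, hs, h1⟩ := BrauerPairs.hasBlocks M (Subgroup.centralizer (R : Set G))
  obtain ⟨f, hf, hne⟩ : ∃ f ∈ s, br R i * f ≠ 0 := by
    by_contra hno
    push Not at hno
    refine h0 ?_
    rw [← mul_one (br R i), ← h1, Finset.mul_sum]
    exact Finset.sum_eq_zero hno
  have hfb := hs f hf
  have hiR : i ∈ fixedBy (AlgInt ⧸ M) R := fixedBy_anti le_sup_left hi.1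
  have hff : f ∈ fixedBy (AlgInt ⧸ M) (R ⊔ S) :=
    fixedBy_sup hE (BrauerPairs.mem_fixedBy_of_supp_centralizer hfb.mem.1)
      (block_mem_fixedBy hE le_rfl hfb)
  have hfR : f ∈ fixedBy (AlgInt ⧸ M) R := fixedBy_anti le_sup_left hff
  have hbrf : br R f = f := BrauerPairs.br_eq_self fun x hx => hfb.mem.1 x hx
  have hai : br R i * br R i = br R i := by rw [← br_mul (p := p) hE.pR hiR hiR, hi.2.1]
  have hcomm : br R i * f = f * br R i :=
    centerIn_commute (H := Subgroup.centralizer (R : Set G)) (fun x hx => coeff_br_of_notMem _ hx) hfb.mem.2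
  have hbr : br R (i * f * i) = br R i * f := by
    rw [br_mul (p := p) hE.pR (mul_mem hiR hfR) hiR, br_mul (p := p) hE.pR hiR hfR, hbrf, mul_assoc,
      ← hcomm, ← mul_assoc, hai]
  rcases unit_or_nilpotent hi (inCorner_mul_mul hi hff) with ⟨h, hh, -, h2⟩ | hn
  · refine ⟨f, hfb, ?_⟩
    have key : br R i = br R h * (br R i * f) := by
      rw [← hbr, ← br_mul (p := p) hE.pR (fixedBy_anti le_sup_left hh.1)
        (fixedBy_anti le_sup_left (inCorner_mul_mul hi hff).1), h2]
    conv_lhs => rw [key]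
    conv_rhs => rw [key]
    simp only [mul_assoc, hfb.idem]
  · refine absurd ?_ hne
    obtain ⟨n, hn⟩ := hn
    refine BrauerPairs.eq_zero_of_idem_nilpotent ?_ ⟨n, ?_⟩
    · calc br R i * f * (br R i * f) = br R i * (br R i * f) * f := by
            conv_rhs => rw [hcomm]
            simp only [mul_assoc]
        _ = br R i * f := by rw [← mul_assoc (br R i), hai, mul_assoc, hfb.idem]
    · rw [← hbr, ← BrauerPairs.br_pow (p := p) hE.pR (fixedBy_anti le_sup_left (inCorner_mul_mul hi hff).1),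
        hn, map_zero]

/-- The subpair at `Q` absorbs `br Q i`. -/
theorem br_mul_subpair (hE : IsElem p R S) (hi : IsPrim (R ⊔ S) i) (h0 : br R i ≠ 0)
    (hf : IsBlockIdem (Subgroup.centralizer (R : Set G)) f) (habs : br R i * f = br R i) :
    ∀ (Q : Subgroup G) (f' : MonoidAlgebra (AlgInt ⧸ M) G), PLE p (Q, f') (R, f) →
      br Q i * f' = br Q i := by
  have hpair : IsPair p (R, f) := ⟨hE.pR, hf⟩
  have hblk := fun H : Subgroup G => BrauerPairs.hasBlocks M H
  intro Q
  induction Q using WellFoundedGT.induction with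
  | ind Q ih =>
    intro f' hle
    have hQR : Q ≤ R := hle.le
    rcases eq_or_lt_of_le hQR with heq | hlt
    · subst heq
      obtain rfl : f' = f := congrArg Prod.snd (hle.eq_of_fst_eq rfl)
      exact habs
    have hQp : IsPGroup p Q := hE.pR.to_le hQR
    have hf' : IsBlockIdem (Subgroup.centralizer (Q : Set G)) f' := (hle.isPair_left hpair).2
    set N := R ⊓ Subgroup.normalizer (Q : Set G) with hN
    have hQN : Q < N := BrauerPairs.lt_inf_normalizer hE.pR hlt
    have hiQ : i ∈ fixedBy (AlgInt ⧸ M) Q := fixedBy_anti (hQR.trans le_sup_left) hi.1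
    have hstep : ∀ T : Subgroup G, Q ≤ T → T ≤ N → ∀ fT, PLE p (T, fT) (R, f) →
        Step p (Q, f') (T, fT) := by
      intro T hQT hTN fT hfT
      obtain ⟨f'', hf''⟩ := exists_ple hblk (hfT.isPair_left hpair) Q hQT
      obtain rfl : f'' = f' := ple_unique hblk hpair Q _ _ (Relation.ReflTransGen.trans hf'' hfT) hle
      exact hf''.step_of_le_normalizer hblk (hle.isPair_left hpair) (hTN.trans inf_le_right)
    set a := br Q i with ha
    have haa : a * a = a := by rw [ha, ← br_mul (p := p) hQp hiQ hiQ, hi.2.1]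
    have hcomm : a * f' = f' * a :=
      centerIn_commute (H := Subgroup.centralizer (Q : Set G)) (fun x hx => coeff_br_of_notMem _ hx) hf'.mem.2
    have hafaf : a * f' * (a * f') = a * f' := by
      calc a * f' * (a * f') = a * (a * f') * f' := by
            conv_rhs => rw [hcomm]
            simp only [mul_assoc]
        _ = a * f' := by rw [← mul_assoc a, haa, mul_assoc, hf'.idem]
    set w := a - a * f' with hw
    have hww : w * w = w := by
      have e1 : a * (a * f') = a * f' := by rw [← mul_assoc, haa]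
      have e2 : a * f' * a = a * f' := by rw [mul_assoc, ← hcomm, ← mul_assoc, haa]
      rw [hw, sub_mul, mul_sub, mul_sub, haa, e1, e2, hafaf]
      abel
    have hawa : a * w * a = w := by
      rw [hw, mul_sub, sub_mul, haa, haa, ← mul_assoc, haa, mul_assoc, ← hcomm, ← mul_assoc, haa]
    have hNle : N ⊔ S ≤ R ⊔ S := sup_le_sup_right inf_le_left S
    have hSn : S ≤ Subgroup.normalizer (Q : Set G) :=
      (hE.cent.trans (Subgroup.centralizer_le hQR)).trans (Subgroup.centralizer_le_normalizer _)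
    have haf : a ∈ fixedBy (AlgInt ⧸ M) (N ⊔ S) :=
      br_mem_fixedBy hi.1 hNle (sup_le inf_le_right hSn)
    have hwf : w ∈ fixedBy (AlgInt ⧸ M) (N ⊔ S) := by
      refine sub_mem haf (mul_mem haf (fixedBy_sup (hE.mono inf_le_left) ?_ (block_mem_fixedBy hE hQR hf')))
      obtain ⟨fN, hfN⟩ := exists_ple hblk hpair N inf_le_left
      exact (hstep N hQN.le le_rfl fN hfN).2.2.2.2.1
    have hwsupp : ∀ x, x ∉ Subgroup.centralizer (Q : Set G) → w.coeff x = 0 := by
      intro x hx
      have h1 : a ∈ BrauerPairs.suppIn (AlgInt ⧸ M) (Subgroup.centralizer (Q : Set G)) :=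
        fun y hy => coeff_br_of_notMem _ hy
      exact (sub_mem h1 (mul_mem h1 hf'.mem.1)) x hx
    have hkill : ∀ T : Subgroup G, Q < T → T ≤ N → br T w = 0 := by
      intro T hQT hTN
      obtain ⟨fT, hfT⟩ := exists_ple hblk hpair T (hTN.trans inf_le_left)
      obtain ⟨-, hpT, -, -, hfixT, hbrT⟩ := hstep T hQT.le hTN fT hfT
      simp only at hpT hfixT hbrT
      have hTp : IsPGroup p T := hE.pR.to_le (hTN.trans inf_le_left)
      have haT : a ∈ fixedBy (AlgInt ⧸ M) T := fixedBy_anti (hTN.trans le_sup_left) haf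
      have hc : br T f' * fT = fT * br T f' :=
        centerIn_commute (H := Subgroup.centralizer (T : Set G)) (fun x hx => coeff_br_of_notMem _ hx) hpT.2.mem.2
      have hih : br T i * fT = br T i := ih T hQT fT hfT
      rw [hw, map_sub, br_mul (p := p) hTp haT hfixT, ha, br_br hQT.le]
      conv_lhs => arg 2; rw [← hih, mul_assoc, ← hc, hbrT, hih]
      exact sub_self _
    have hCQ : ∀ y, w.coeff y ≠ 0 → ∀ r ∈ R, Commute r y → r ∈ Subgroup.normalizer (Q : Set G) → r ∈ Q := by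
      intro y hy r hr hry hrn
      by_contra hrQ
      set T := N ⊓ Subgroup.centralizer ({y} : Set G) with hT
      have hQT : Q ≤ T := le_inf hQN.le fun q hq => by
        have hyC : y ∈ Subgroup.centralizer (Q : Set G) := by
          by_contra h
          exact hy (hwsupp y h)
        exact Subgroup.mem_centralizer_singleton_iff.2 (Subgroup.mem_centralizer_iff.1 hyC q hq)
      have hrT : r ∈ T := ⟨⟨hr, hrn⟩, Subgroup.mem_centralizer_singleton_iff.2 hry.eq⟩
      refine hy ?_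
      rw [← coeff_br_of_mem (P := T) w (Subgroup.mem_centralizer_iff.2 fun t ht =>
          Subgroup.mem_centralizer_singleton_iff.1 ht.2),
        hkill T (lt_of_le_of_ne hQT fun e => hrQ (e ▸ hrT)) inf_le_left]
      simp
    set z := relTr (N ⊔ S) (R ⊔ S) w with hz
    have hzf : z ∈ fixedBy (AlgInt ⧸ M) (R ⊔ S) := BrauerPairs.relTr_mem_fixedBy hwf
    letI := Fintype.ofFinite ((R ⊔ S : Subgroup G) ⧸ (N ⊔ S).subgroupOf (R ⊔ S))
    have hzc : ∀ x, z.coeff x = ∑ q : (R ⊔ S : Subgroup G) ⧸ (N ⊔ S).subgroupOf (R ⊔ S),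
        w.coeff (((q.out : (R ⊔ S : Subgroup G)) : G)⁻¹ * x * ((q.out : (R ⊔ S : Subgroup G)) : G)) := by
      intro x
      rw [hz, relTr, coeff_sum, Finsupp.finsetSum_apply]
      exact Finset.sum_congr (Finset.ext fun _ => by simp) fun q _ => coeff_conjEl _ _ _
    have hbrQ : br Q z = w := alg_ext fun x => by
      by_cases hx : x ∈ Subgroup.centralizer (Q : Set G)
      · rw [coeff_br_of_mem _ hx, hzc]
        rw [Finset.sum_eq_single_of_mem
          (((1 : (R ⊔ S : Subgroup G)) : (R ⊔ S : Subgroup G) ⧸ (N ⊔ S).subgroupOf (R ⊔ S)))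
          (Finset.mem_univ _) fun q _ hq => ?_]
        · have h1 : ((((1 : (R ⊔ S : Subgroup G)) : (R ⊔ S : Subgroup G) ⧸
              (N ⊔ S).subgroupOf (R ⊔ S)).out : (R ⊔ S : Subgroup G)) : G) ∈ N ⊔ S := by
            have e := QuotientGroup.out_eq'
              ((1 : (R ⊔ S : Subgroup G)) : (R ⊔ S : Subgroup G) ⧸ (N ⊔ S).subgroupOf (R ⊔ S))
            rw [eq_comm, QuotientGroup.eq, inv_one, one_mul, Subgroup.mem_subgroupOf] at e
            exact e
          have h2 := mem_fixedBy_iff_coeff.1 hwf _ (inv_mem h1) x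
          rw [inv_inv] at h2
          exact h2
        · by_contra hne
          obtain ⟨r, hr, s, hs, hrs⟩ := hE.mem_sup.1 (q.out : (R ⊔ S : Subgroup G)).2
          refine hq ?_
          rw [← QuotientGroup.out_eq' q, QuotientGroup.eq, Subgroup.mem_subgroupOf]
          simp only [mul_one, InvMemClass.coe_inv]
          refine inv_mem ?_
          rw [← hrs] at hne ⊢
          set y := (r * s)⁻¹ * x * (r * s) with hy
          have hyC : y ∈ Subgroup.centralizer (Q : Set G) := by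
            by_contra h
            exact hne (hwsupp y h)
          set T := R ⊓ Subgroup.centralizer ({y} : Set G) with hT
          have hQT : Q ≤ T := le_inf hQR fun q' hq' =>
            Subgroup.mem_centralizer_singleton_iff.2 (Subgroup.mem_centralizer_iff.1 hyC q' hq')
          have hTQ : T = Q := by
            by_contra hne'
            have h1 := BrauerPairs.lt_inf_normalizer (hE.pR.to_le (inf_le_left : T ≤ R))
              (lt_of_le_of_ne hQT (Ne.symm hne'))
            obtain ⟨t, ⟨⟨htR, hty⟩, htn⟩, htQ⟩ := SetLike.exists_of_lt h1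
            exact htQ (hCQ y hne t htR (Subgroup.mem_centralizer_singleton_iff.1 hty) htn)
          refine mul_mem (Subgroup.mem_sup_left ⟨hr, ?_⟩) (Subgroup.mem_sup_right hs)
          show r ∈ Subgroup.normalizer (Q : Set G)
          rw [← inv_mem_iff (H := Subgroup.normalizer (Q : Set G))]
          refine BrauerPairs.mem_normalizer_of_conj_le fun q' hq' => ?_
          rw [inv_inv, ← hTQ]
          refine Subgroup.mem_inf.2 ⟨mul_mem (mul_mem (inv_mem hr) (hQR hq')) hr,
            Subgroup.mem_centralizer_singleton_iff.2 ?_⟩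
          have hsc : Commute (r⁻¹ * q' * r) s :=
            hE.commute (mul_mem (mul_mem (inv_mem hr) (hQR hq')) hr) hs
          have hxq : Commute q' x := Subgroup.mem_centralizer_iff.1 hx q' hq'
          have h3 : r⁻¹ * q' * r = (r * s)⁻¹ * q' * (r * s) := by
            calc r⁻¹ * q' * r = s⁻¹ * (s * (r⁻¹ * q' * r)) := by group
              _ = s⁻¹ * (r⁻¹ * q' * r * s) := by rw [hsc.symm.eq]
              _ = _ := by group
          rw [h3, hy]
          calc (r * s)⁻¹ * q' * (r * s) * ((r * s)⁻¹ * x * (r * s))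
              = (r * s)⁻¹ * (q' * x) * (r * s) := by group
            _ = (r * s)⁻¹ * (x * q') * (r * s) := by rw [hxq.eq]
            _ = _ := by group
      · rw [coeff_br_of_notMem _ hx, hwsupp x hx]
    have hbrR : br R z = 0 := alg_ext fun x => by
      by_cases hx : x ∈ Subgroup.centralizer (R : Set G)
      · rw [coeff_br_of_mem _ hx, hzc]
        refine (Finset.sum_eq_zero fun q _ => ?_).trans (by simp)
        by_contra hne
        obtain ⟨n, hn, hnQ⟩ := SetLike.exists_of_lt hQN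
        refine hnQ (hCQ _ hne n hn.1 ?_ hn.2)
        obtain ⟨r, hr, s, hs, hrs⟩ := hE.mem_sup.1 (q.out : (R ⊔ S : Subgroup G)).2
        rw [← hrs]
        have h1 : Commute (r * n * r⁻¹) x :=
          Subgroup.mem_centralizer_iff.1 hx _ (mul_mem (mul_mem hr hn.1) (inv_mem hr))
        have h2 : Commute n s := hE.commute hn.1 hs
        have h3 : n = (r * s)⁻¹ * (r * n * r⁻¹) * (r * s) := by
          calc n = s⁻¹ * (s * n) := by group
            _ = s⁻¹ * (n * s) := by rw [h2.eq]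
            _ = _ := by group
        show n * _ = _ * n
        rw [h3]
        calc (r * s)⁻¹ * (r * n * r⁻¹) * (r * s) * ((r * s)⁻¹ * x * (r * s))
            = (r * s)⁻¹ * ((r * n * r⁻¹) * x) * (r * s) := by group
          _ = (r * s)⁻¹ * (x * (r * n * r⁻¹)) * (r * s) := by rw [h1.eq]
          _ = _ := by group
      · rw [coeff_br_of_notMem _ hx]
        simp
    have hizi := inCorner_mul_mul hi hzf
    have hizR : ∀ {K : Subgroup G}, IsPGroup p K → K ≤ R → br K (i * z * i) = br K i * br K z * br K i := by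
      intro K hK hKR
      have hiK : i ∈ fixedBy (AlgInt ⧸ M) K := fixedBy_anti (hKR.trans le_sup_left) hi.1
      have hzK : z ∈ fixedBy (AlgInt ⧸ M) K := fixedBy_anti (hKR.trans le_sup_left) hzf
      rw [br_mul (p := p) hK (mul_mem hiK hzK) hiK, br_mul (p := p) hK hiK hzK]
    rcases unit_or_nilpotent hi hizi with ⟨h, hh, -, h2⟩ | hn
    · refine absurd ?_ h0
      rw [← h2, br_mul (p := p) hE.pR (fixedBy_anti le_sup_left hh.1) (fixedBy_anti le_sup_left hizi.1),
        hizR hE.pR le_rfl, hbrR, mul_zero, zero_mul, mul_zero]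
    · obtain ⟨n, hn⟩ := hn
      have hw0 : w = 0 := by
        refine BrauerPairs.eq_zero_of_idem_nilpotent hww ⟨n, ?_⟩
        rw [show w = br Q (i * z * i) by rw [hizR hQp hQR, hbrQ, ← ha, hawa],
          ← BrauerPairs.br_pow (p := p) hQp (fixedBy_anti (hQR.trans le_sup_left) hizi.1), hn, map_zero]
      exact (sub_eq_zero.1 hw0).symm

/-- The indicator of an orbit. -/
noncomputable def orbSum (H : Subgroup G) (y : G) : MonoidAlgebra (AlgInt ⧸ M) G :=
  ofFun fun x => if ∃ h ∈ H, h * y * h⁻¹ = x then 1 else 0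

theorem coeff_orbSum (H : Subgroup G) (y x : G) :
    (orbSum (M := M) H y).coeff x = if ∃ h ∈ H, h * y * h⁻¹ = x then 1 else 0 := by
  rw [orbSum, coeff_ofFun]

theorem orbSum_mem_fixedBy (H : Subgroup G) (y : G) :
    orbSum (M := M) H y ∈ fixedBy (AlgInt ⧸ M) H := by
  refine mem_fixedBy_iff_coeff.2 fun h hh x => ?_
  rw [coeff_orbSum, coeff_orbSum]
  refine if_congr ⟨?_, ?_⟩ rfl rfl
  · rintro ⟨g, hg, e⟩
    exact ⟨h⁻¹ * g, mul_mem (inv_mem hh) hg,
      by rw [show x = h⁻¹ * (g * y * g⁻¹) * h by rw [e]; group]; group⟩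
  · rintro ⟨g, hg, rfl⟩
    exact ⟨h * g, mul_mem hh hg, by group⟩

theorem relTr_orbSum {H K : Subgroup G} (hle : K ≤ H) {y : G} (hC : ∀ h ∈ H, Commute h y → h ∈ K) :
    relTr K H (orbSum (M := M) K y) = orbSum H y := by
  letI := Fintype.ofFinite (H ⧸ K.subgroupOf H)
  refine alg_ext fun x => ?_
  have hc : (relTr K H (orbSum (M := M) K y)).coeff x = ∑ q : H ⧸ K.subgroupOf H,
      (orbSum (M := M) K y).coeff (((q.out : H) : G)⁻¹ * x * ((q.out : H) : G)) := by
    rw [relTr, coeff_sum, Finsupp.finsetSum_apply]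
    exact Finset.sum_congr (Finset.ext fun _ => by simp) fun q _ => coeff_conjEl _ _ _
  rw [hc, coeff_orbSum]
  simp only [coeff_orbSum]
  split_ifs with hx
  · obtain ⟨g, hg, rfl⟩ := hx
    rw [Finset.sum_eq_single_of_mem (((⟨g, hg⟩ : H)) : H ⧸ K.subgroupOf H) (Finset.mem_univ _)
      fun q _ hq => if_neg ?_]
    · refine if_pos ?_
      have e := QuotientGroup.out_eq' (((⟨g, hg⟩ : H)) : H ⧸ K.subgroupOf H)
      rw [eq_comm, QuotientGroup.eq, Subgroup.mem_subgroupOf] at e
      refine ⟨_, inv_mem e, ?_⟩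
      simp [mul_assoc]
    · rintro ⟨k, hk, hkq⟩
      refine hq ?_
      rw [← QuotientGroup.out_eq' q, QuotientGroup.eq, Subgroup.mem_subgroupOf]
      simp only [Subgroup.coe_mul, InvMemClass.coe_inv]
      set t := ((q.out : H) : G) with ht
      have h1 : Commute (g⁻¹ * t * k) y := by
        show g⁻¹ * t * k * y = y * (g⁻¹ * t * k)
        calc g⁻¹ * t * k * y = g⁻¹ * t * (k * y * k⁻¹) * k := by group
          _ = _ := by rw [hkq]; group
      have h2 := hC _ (mul_mem (mul_mem (inv_mem hg) (q.out : H).2) (hle hk)) h1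
      rw [show t⁻¹ * g = k * (g⁻¹ * t * k)⁻¹ by group]
      exact mul_mem hk (inv_mem h2)
  · refine Finset.sum_eq_zero fun q _ => if_neg ?_
    rintro ⟨k, hk, hkq⟩
    refine hx ⟨((q.out : H) : G) * k, mul_mem (q.out : H).2 (hle hk), ?_⟩
    calc ((q.out : H) : G) * k * y * (((q.out : H) : G) * k)⁻¹
        = ((q.out : H) : G) * (k * y * k⁻¹) * ((q.out : H) : G)⁻¹ := by group
      _ = x := by rw [hkq]; group

/-- A primitive idempotent killed by `br R` is a relative trace. -/
theorem exists_relTr_of_br_eq_zero (hE : IsElem p R S) (hi : IsPrim (R ⊔ S) i) (h0 : br R i = 0) :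
    ∃ M₀ : Subgroup G, M₀ < R ∧ R ≤ Subgroup.normalizer (M₀ : Set G) ∧
      Nat.card ((R ⊔ S : Subgroup G) ⧸ (M₀ ⊔ S).subgroupOf (R ⊔ S)) = p ∧
      (∃ a ∈ fixedBy (AlgInt ⧸ M) (M₀ ⊔ S), i * a = a ∧ a * i = a ∧
        relTr (M₀ ⊔ S) (R ⊔ S) a = i) ∧
      ∀ u ∈ R, u ∉ M₀ → br (Subgroup.zpowers u) i = 0 := by
  have key : ∀ (n : ℕ) (a : MonoidAlgebra (AlgInt ⧸ M) G), a.coeff.support.card = n →
      a ∈ fixedBy (AlgInt ⧸ M) (R ⊔ S) → (∀ x, a.coeff x ≠ 0 → i.coeff x ≠ 0) →
      (∀ y, i.coeff y ≠ 0 → IsNilpotent (i * orbSum (R ⊔ S) y * i)) → IsNilpotent (i * a * i) := by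
    intro n
    induction n using Nat.strong_induction_on with
    | _ n ih =>
      intro a hn ha hsub hall
      rcases eq_or_ne a 0 with rfl | hne
      · simp
      obtain ⟨y, hy⟩ : ∃ y, a.coeff y ≠ 0 := by
        by_contra hno
        push Not at hno
        exact hne (alg_ext fun x => by rw [hno x]; simp)
      set c := a.coeff y
      set b := a - c • orbSum (R ⊔ S) y with hb
      have hbc : ∀ x, b.coeff x = if ∃ h ∈ R ⊔ S, h * y * h⁻¹ = x then 0 else a.coeff x := by
        intro x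
        rw [hb, coeff_sub, Finsupp.sub_apply, coeff_smul_apply, coeff_orbSum]
        split_ifs with hx
        · obtain ⟨h, hh, rfl⟩ := hx
          rw [mem_fixedBy_iff_coeff.1 ha h hh y]
          simp [c]
        · simp
      have hbs : ∀ x, b.coeff x ≠ 0 → a.coeff x ≠ 0 := fun x hx h => hx (by rw [hbc, h, ite_self])
      have hbf : b ∈ fixedBy (AlgInt ⧸ M) (R ⊔ S) :=
        sub_mem ha (Subalgebra.smul_mem _ (orbSum_mem_fixedBy _ _) c)
      have hlt : b.coeff.support.card < n := by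
        rw [← hn]
        refine Finset.card_lt_card ⟨fun x hx => ?_, fun hsub' => ?_⟩
        · rw [Finsupp.mem_support_iff] at hx ⊢
          exact hbs x hx
        · refine (Finsupp.mem_support_iff.1 (hsub' (Finsupp.mem_support_iff.2 hy))) ?_
          rw [hbc, if_pos ⟨1, one_mem _, by group⟩]
      have e : i * a * i = i * b * i + c • (i * orbSum (R ⊔ S) y * i) := by
        rw [hb, mul_sub, sub_mul, mul_smul_comm, smul_mul_assoc, sub_add_cancel]
      rw [e]
      exact nilpotent_add hi (inCorner_mul_mul hi hbf)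
        (InCorner.smul c (inCorner_mul_mul hi (orbSum_mem_fixedBy _ _)))
        (ih _ hlt b rfl hbf (fun x hx => hsub x (hbs x hx)) hall) ((hall y (hsub y hy)).smul c)
  obtain ⟨y, hy, hnn⟩ : ∃ y, i.coeff y ≠ 0 ∧ ¬ IsNilpotent (i * orbSum (R ⊔ S) y * i) := by
    by_contra hno
    push Not at hno
    refine not_nilpotent_prim hi ?_
    have := key _ i rfl hi.1 (fun x hx => hx) hno
    rwa [hi.2.1, hi.2.1] at this
  obtain ⟨h, hh, -, h2⟩ :=
    (unit_or_nilpotent hi (inCorner_mul_mul hi (orbSum_mem_fixedBy _ _))).resolve_right hnn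
  have hTlt : R ⊓ Subgroup.centralizer ({y} : Set G) < R := by
    refine lt_of_le_of_ne inf_le_left fun e => hy ?_
    rw [← coeff_br_of_mem (P := R) i (Subgroup.mem_centralizer_iff.2 fun r hr =>
      Subgroup.mem_centralizer_singleton_iff.1 ((e.ge hr).2)), h0]
    simp
  obtain ⟨M₀, hT, hMR, hMn, hcard⟩ := exists_maximal_above hE.pR hTlt
  have hKle : M₀ ⊔ S ≤ R ⊔ S := sup_le_sup_right hMR S
  have hC : ∀ x ∈ R ⊔ S, Commute x y → x ∈ M₀ ⊔ S := by
    intro x hx hxy
    obtain ⟨r, hr, s, hs, rfl⟩ := hE.mem_sup.1 hx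
    refine mul_mem (Subgroup.mem_sup_left (hT ⟨hr, ?_⟩)) (Subgroup.mem_sup_right hs)
    obtain ⟨j, hj⟩ := IsPPart.mem_zpowers (hE.isPPart hr hs)
    have h3 := (hxy.zpow_left j).eq
    simp only at hj
    rw [hj] at h3
    exact Subgroup.mem_centralizer_singleton_iff.2 h3
  have hcard' : Nat.card ((R ⊔ S : Subgroup G) ⧸ (M₀ ⊔ S).subgroupOf (R ⊔ S)) = p := by
    have h1 := Subgroup.card_mul_index ((M₀ ⊔ S).subgroupOf (R ⊔ S))
    rw [Nat.card_congr (Subgroup.subgroupOfEquivOfLe hKle).toEquiv, (hE.mono hMR).card_sup,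
      hE.card_sup, ← hcard, Subgroup.index_eq_card] at h1
    refine Nat.eq_of_mul_eq_mul_left (mul_pos Nat.card_pos Nat.card_pos :
      0 < Nat.card M₀ * Nat.card S) ?_
    rw [h1]
    ring
  refine ⟨M₀, lt_of_le_of_ne hMR fun e => ?_, hMn, hcard',
    ⟨h * i * orbSum (M₀ ⊔ S) y * i, ?_, ?_, ?_, ?_⟩, fun u hu hun => ?_⟩
  · rw [e] at hcard
    have := (Fact.out : p.Prime).one_lt
    nlinarith [(Nat.card_pos : 0 < Nat.card R)]
  · exact mul_mem (mul_mem (mul_mem (fixedBy_anti hKle hh.1) (fixedBy_anti hKle hi.1))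
      (orbSum_mem_fixedBy _ _)) (fixedBy_anti hKle hi.1)
  · simp only [← mul_assoc, hh.2.1]
  · simp only [mul_assoc, hi.2.1]
  · rw [← BrauerPairs.relTr_mul _ hi.1, ← BrauerPairs.mul_relTr _ (mul_mem hh.1 hi.1),
      relTr_orbSum hKle hC]
    simpa [mul_assoc] using h2
  · have hzle : Subgroup.zpowers u ≤ R ⊔ S := Subgroup.zpowers_le.2 (Subgroup.mem_sup_left hu)
    have hup : IsPGroup p (Subgroup.zpowers u) := hE.pR.to_le (Subgroup.zpowers_le.2 hu)
    have hi' : relTr (M₀ ⊔ S) (R ⊔ S) (h * i * orbSum (M₀ ⊔ S) y * i) = i := by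
      rw [← BrauerPairs.relTr_mul _ hi.1, ← BrauerPairs.mul_relTr _ (mul_mem hh.1 hi.1),
        relTr_orbSum hKle hC]
      simpa [mul_assoc] using h2
    conv_lhs => rw [← hi']
    refine BrauerPairs.br_relTr_eq_zero (p := p) hup hzle
      (mul_mem (mul_mem (mul_mem (fixedBy_anti hKle hh.1) (fixedBy_anti hKle hi.1))
        (orbSum_mem_fixedBy _ _)) (fixedBy_anti hKle hi.1)) fun g hg hc => hun ?_
    refine hE.mem_left hMR hu ?_
    have hn := Subgroup.mem_normalizer_iff''.1 (hE.le_normalizer_sup hMR hMn hg) u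
    exact hn.2 (hc u (Subgroup.mem_zpowers u))

end Alg

end Cfsg.Agent.Star
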