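import Cfsg.Agent.Lib.Star.Def
import Cfsg.Agent.Lib.Star.Unique
import Cfsg.Agent.Lib.Char.Brauer
import Cfsg.Agent.Lib.Char.PRegular

/-!
# `star lam χ` is a generalized character

Restricted to an elementary group `R ⊔ S` the function `Phi i` of a primitive idempotent is a linear
character times a character when `br R i ≠ 0`; otherwise it is supported on `M₀ ⊔ S` and its inner
products are `p⁻¹` times an invariant sum, divisible by `p`.
-/

set_option autoImplicit false
set_option linter.unusedSectionVars false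
set_option linter.style.haveILetI false

namespace Cfsg.Agent.Star

open Cfsg MonoidAlgebra
open Agent.Blocks
open Cfsg.Agent.BrauerPairs (fixedBy conjEl br relTr mem_fixedBy_iff_coeff fixedBy_anti IsBlockIdem
  IsPair IsPairOf IsMax PLE conjPair blk blkG centerIn_commute br_mul br_br)
open scoped Classical Cfsg.Agent.Blocks ComplexConjugate

universe u

variable {M : Ideal AlgInt} [M.IsMaximal] {G : Type u} [Group G] [Finite G] {p : ℕ} [hp : Fact p.Prime]

/-- The trace on the range of a fixed idempotent is a character. -/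
theorem isCharacter_chiL_idem (χ : IrrCharacter G) {H : Subgroup G} {X : MonoidAlgebra ℂ G}
    (hX : X ∈ fixedBy ℂ H) (hXX : X * X = X) :
    IsCharacter H (fun x : H => chiL χ.1 (X * MonoidAlgebra.single (x : G) 1)) := by
  obtain ⟨n, ρ, -, he⟩ := χ.2
  set Q : Module.End ℂ (Fin n → ℂ) := ρ.asAlgebraHom X with hQ
  have hQQ : Q * Q = Q := by rw [hQ, ← map_mul, hXX]
  have hc : ∀ h ∈ H, Q * ρ h = ρ h * Q := fun h hh => by
    have : Commute X (MonoidAlgebra.single h 1) :=
      commute_single_of_invariant fun x => mem_fixedBy_iff_coeff.1 hX h hh x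
    rw [hQ, ← Representation.asAlgebraHom_single_one, ← map_mul, this.eq, map_mul]
  set W := LinearMap.range Q with hW
  have hmaps : ∀ x : H, ∀ w ∈ W, ρ (x : G) w ∈ W := by
    rintro x _ ⟨v, rfl⟩
    exact ⟨ρ (x : G) v, LinearMap.congr_fun (hc x x.2) v⟩
  let σ : Representation ℂ H W :=
    { toFun := fun x => (ρ (x : G)).restrict (hmaps x)
      map_one' := LinearMap.ext fun w => Subtype.ext (by simp)
      map_mul' := fun x y => LinearMap.ext fun w => Subtype.ext (by simp) }
  have hfix : ∀ w : W, Q w = w := by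
    rintro ⟨_, v, rfl⟩
    exact LinearMap.congr_fun hQQ v
  suffices h : σ.character = fun x : H => chiL χ.1 (X * MonoidAlgebra.single (x : G) 1) from
    h ▸ Char.isCharacter_character σ
  funext x
  rw [← he, chiL_character, map_mul, Representation.asAlgebraHom_single_one, ← hQ]
  set f : (Fin n → ℂ) →ₗ[ℂ] W := LinearMap.codRestrict W (ρ (x : G) ∘ₗ Q)
    (fun v => hmaps x _ ⟨v, rfl⟩)
  have h1 : σ x = f ∘ₗ W.subtype := LinearMap.ext fun w => Subtype.ext (by
    show ρ (x : G) w = ρ (x : G) (Q w)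
    rw [hfix])
  have h2 : Q * ρ (x : G) = W.subtype ∘ₗ f := by
    rw [hc x x.2]
    exact LinearMap.ext fun v => rfl
  show LinearMap.trace ℂ W (σ x) = _
  rw [h1, h2]
  exact LinearMap.trace_comp_comm' W.subtype f

variable [CharP (AlgInt ⧸ M) p] {B : Set (IrrCharacter G)} {P : Subgroup G}
  {E : MonoidAlgebra (AlgInt ⧸ M) G} {lam : G → ℂ}

/-- The case `br R i ≠ 0`. -/
theorem isGen_Phi_of_br_ne_zero (hpM : (p : AlgInt) ∈ M) (hB : IsPBlock M B)
    (hmax : IsMax p (blkG M B) (P, E)) (hl : IsFusionStable p P E lam)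
    (hgen : ∀ Q : Subgroup G, Q ≤ P → IsGeneralizedCharacter Q (fun x : Q => lam x))
    (χ : IrrCharacter G) {R S : Subgroup G} (hE : IsElem p R S) {i : MonoidAlgebra (AlgInt ⧸ M) G} (hi : IsPrim (R ⊔ S) i)
    (hiB : i * blkG M B = i) (h0 : br R i ≠ 0) :
    IsGeneralizedCharacter (R ⊔ S : Subgroup G)
      (fun x : (R ⊔ S : Subgroup G) => Phi p P E lam χ.1 i x) := by
  obtain ⟨f, hf, habs⟩ := exists_block_of_br_ne_zero (p := p) hE hi h0
  have hBi := BrauerPairs.isBlockIdem_blkG hB
  have hblk := fun H : Subgroup G => BrauerPairs.hasBlocks M H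
  have hiR : i ∈ fixedBy (AlgInt ⧸ M) R := fixedBy_anti le_sup_left hi.1
  have hBR : blkG M B ∈ fixedBy (AlgInt ⧸ M) R := BrauerPairs.mem_fixedBy_of_top hBi.mem _
  have hpairB : IsPairOf p (blkG M B) (R, f) := by
    refine ⟨⟨hE.pR, hf⟩, (hf.mul_eq_zero_or_self (BrauerPairs.br_top_mem hBi.mem)
      (by rw [← br_mul (p := p) hE.pR hBR hBR, hBi.idem])).resolve_left fun hz => h0 ?_⟩
    show br R i = 0
    rw [← habs, ← hiB, br_mul (p := p) hE.pR hiR hBR, mul_assoc, hz, mul_zero]
  obtain ⟨g0, hg0⟩ := BrauerPairs.exists_conj_ple hblk hBi hmax hpairB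
  have hg0R : ∀ r ∈ R, g0 * r * g0⁻¹ ∈ P := fun r hr => hg0.le ⟨r, hr, rfl⟩
  -- `lam` on `R ⊔ S`
  choose rp hrp sp hsp hrs using fun x : (R ⊔ S : Subgroup G) => hE.mem_sup.1 x.2
  have hmul : ∀ x y, rp (x * y) = rp x * rp y := by
    intro x y
    refine (hE.eq_of_mul_eq (hrp (x * y)) (hsp (x * y)) (mul_mem (hrp x) (hrp y))
      (mul_mem (hsp x) (hsp y)) ?_).1
    rw [hrs, Subgroup.coe_mul, ← hrs x, ← hrs y]
    calc rp x * sp x * (rp y * sp y) = rp x * (sp x * rp y) * sp y := by group
      _ = rp x * (rp y * sp x) * sp y := by rw [(hE.commute (hrp y) (hsp x)).eq]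
      _ = _ := by group
  have hone : rp 1 = 1 :=
    (hE.eq_of_mul_eq (hrp 1) (hsp 1) (one_mem R) (one_mem S) (by rw [hrs, one_mul]; rfl)).1
  let Q : Subgroup G := R.map (MulAut.conj g0).toMonoidHom
  have hQP : Q ≤ P := fun y hy => by
    obtain ⟨r, hr, rfl⟩ := hy
    exact hg0R r hr
  let π : (R ⊔ S : Subgroup G) →* Q :=
    { toFun := fun x => ⟨g0 * rp x * g0⁻¹, rp x, hrp x, rfl⟩
      map_one' := Subtype.ext (by show g0 * rp 1 * g0⁻¹ = 1; rw [hone, mul_one, mul_inv_cancel])
      map_mul' := fun x y => Subtype.ext (by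
        show g0 * rp (x * y) * g0⁻¹ = g0 * rp x * g0⁻¹ * (g0 * rp y * g0⁻¹)
        rw [hmul]
        group) }
  let L : (R ⊔ S : Subgroup G) → ℂ := fun x => lam (g0 * rp x * g0⁻¹)
  have hL : IsGeneralizedCharacter (R ⊔ S : Subgroup G) L :=
    Char.IsGeneralizedCharacter.comp (hgen Q hQP) π
  obtain ⟨X, hXS, hXf, hXX, hXe⟩ := exists_idem_lift hi.2.1 hi.1
  have heq : (fun x : (R ⊔ S : Subgroup G) => Phi p P E lam χ.1 i x) =
      L *
        fun x : (R ⊔ S : Subgroup G) => chiL χ.1 (X * MonoidAlgebra.single (x : G) 1) := by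
    funext x
    have hg : IsPPart p (x : G) (rp x) := hrs x ▸ hE.isPPart (hrp x) (hsp x)
    have hxle : Subgroup.zpowers (x : G) ≤ R ⊔ S := Subgroup.zpowers_le.2 x.2
    have hule : Subgroup.zpowers (rp x) ≤ R := Subgroup.zpowers_le.2 (hrp x)
    obtain ⟨fu, hfu⟩ := BrauerPairs.exists_ple hblk hpairB.1 _ hule
    have habsu := br_mul_subpair hE hi h0 hf habs _ fu hfu
    have hfub : IsBlockIdem (Subgroup.centralizer ({rp x} : Set G)) fu := by
      rw [← centralizer_zpowers_eq]
      exact (hfu.isPair_left hpairB.1).2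
    rw [Phi_eq hg, Finset.sum_eq_single_of_mem fu (mem_blocksAt hfub) fun f' hf' hne => ?_]
    · rw [habsu, kappa_eq hpM hg χ (X := X) ⟨hXS, fixedBy_anti hxle hXf, hXX, by rw [hXe]⟩,
        lamT_eq' (g := g0) hl (Relation.ReflTransGen.trans (hfu.conj g0) hg0)]
      rfl
    · rw [← habsu, mul_assoc, (isBlockIdem_of_mem hf').mul_eq_zero_of_ne hfub hne, mul_zero,
        kappa_zero hpM hg χ, mul_zero]
  rw [heq]
  exact Char.IsGeneralizedCharacter.mul hL
    (Char.IsCharacter.isGeneralized (isCharacter_chiL_idem χ hXf hXX))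

theorem isGen_Phi_prim (hpM : (p : AlgInt) ∈ M) (hB : IsPBlock M B)
    (hmax : IsMax p (blkG M B) (P, E)) (hl : IsFusionStable p P E lam)
    (hgen : ∀ Q : Subgroup G, Q ≤ P → IsGeneralizedCharacter Q (fun x : Q => lam x))
    (χ : IrrCharacter G) {S : Subgroup G} :
    ∀ (R : Subgroup G), IsElem p R S → ∀ i : MonoidAlgebra (AlgInt ⧸ M) G, IsPrim (R ⊔ S) i →
      i * blkG M B = i →
      IsGeneralizedCharacter (R ⊔ S : Subgroup G)
        (fun x : (R ⊔ S : Subgroup G) => Phi p P E lam χ.1 i x) := by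
  intro R
  induction R using WellFoundedLT.induction with
  | ind R ih =>
    intro hE i hi hiB
    by_cases h0 : br R i = 0
    swap
    · exact isGen_Phi_of_br_ne_zero hpM hB hmax hl hgen χ hE hi hiB h0
    obtain ⟨M₀, hlt, hMn, hcard, ⟨a, haf, hia, hai, htr⟩, hvan⟩ :=
      exists_relTr_of_br_eq_zero (p := p) hE hi h0
    set K : Subgroup G := R ⊔ S with hK
    set K' : Subgroup G := M₀ ⊔ S with hK'
    have hle : K' ≤ K := sup_le_sup_right hlt.le S
    have hn : K ≤ Subgroup.normalizer (K' : Set G) := hE.le_normalizer_sup hlt.le hMn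
    letI := Fintype.ofFinite K
    letI := Fintype.ofFinite K'
    refine Char.isGeneralizedCharacter_iff.2 ⟨fun x t => ?_, fun ψ => ?_⟩
    · show Phi p P E lam χ.1 i ((t : G) * x * (t : G)⁻¹) = Phi p P E lam χ.1 i x
      conv_lhs => rw [← hi.1 t t.2]
      exact Phi_conj hpM hl χ t x i
    -- vanishing off `K'`
    have hzero : ∀ x : K, (x : G) ∉ K' → Phi p P E lam χ.1 i x = 0 := by
      intro x hx
      obtain ⟨r, hr, s, hs, hrs⟩ := hE.mem_sup.1 x.2
      have hg : IsPPart p (x : G) r := hrs ▸ hE.isPPart hr hs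
      rw [Phi_eq hg]
      refine Finset.sum_eq_zero fun f _ => ?_
      rw [hvan r hr fun h => hx (hrs ▸ mul_mem (Subgroup.mem_sup_left h) (Subgroup.mem_sup_right hs)),
        zero_mul, kappa_zero hpM hg χ, mul_zero]
    obtain ⟨n, y, hy, horth, hsum⟩ := exists_prim_decomp (fixedBy_anti hle hi.1) hi.2.1
    set ψ' : K' → ℂ := fun x => ψ.1 (Subgroup.inclusion hle x) with hψ'
    have hψg : IsGeneralizedCharacter K' ψ' :=
      Char.IsGeneralizedCharacter.comp (Char.irr_isGeneralized ψ) _
    set I : MonoidAlgebra (AlgInt ⧸ M) G → ℂ := fun z =>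
      classInner (fun x : K' => Phi p P E lam χ.1 z x) ψ' with hI
    have hint : ∀ z, IsPrim K' z → z * blkG M B = z → ∃ m : ℤ, I z = m := fun z hz hzB =>
      Char.IsGeneralizedCharacter.exists_int_classInner (ih M₀ hlt (hE.mono hlt.le) z hz hzB) hψg
    let c : MonoidAlgebra (AlgInt ⧸ M) G → ℤ := fun z => if h : ∃ m : ℤ, I z = m then h.choose else 0
    have hcI : ∀ z, IsPrim K' z → z * blkG M B = z → (c z : ℂ) = I z := fun z hz hzB => by
      simp only [c, dif_pos (hint z hz hzB)]
      exact (hint z hz hzB).choose_spec.symm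
    have hzB : ∀ z, z * i = z → z * blkG M B = z := fun z hz => by rw [← hz, mul_assoc, hiB]
    have hconj : ∀ t ∈ K, ∀ z, IsPrim K' z → i * z = z → z * i = z → c (conjEl t z) = c z := by
      intro t ht z _ _ _
      have : I (conjEl t z) = I z := by
        have hmem : ∀ x : K', t * x * t⁻¹ ∈ K' := fun x =>
          (Subgroup.mem_normalizer_iff.1 (hn ht) x).1 x.2
        have hmem' : ∀ x : K', t⁻¹ * x * t ∈ K' := fun x =>
          (Subgroup.mem_normalizer_iff''.1 (hn ht) x).1 x.2
        let e : K' ≃ K' :=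
          { toFun := fun x => ⟨t * x * t⁻¹, hmem x⟩
            invFun := fun x => ⟨t⁻¹ * x * t, hmem' x⟩
            left_inv := fun x => Subtype.ext (by simp [mul_assoc])
            right_inv := fun x => Subtype.ext (by simp [mul_assoc]) }
        simp only [hI, classInner]
        congr 1
        refine (Fintype.sum_equiv e _ _ fun x => ?_).symm
        show _ = Phi p P E lam χ.1 (conjEl t z) (t * x * t⁻¹) * conj (ψ' ⟨t * x * t⁻¹, hmem x⟩)
        rw [Phi_conj hpM hl χ t x z]
        congr 2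
        exact (irr_classFun ψ (Subgroup.inclusion hle x) ⟨t, ht⟩).symm
      simp only [c, this]
    have hequiv : ∀ z z', IsPrim K' z → IsPrim K' z' → i * z = z → z * i = z → i * z' = z' →
        z' * i = z' → Equivalent K' z z' → c z = c z' := by
      intro z z' hz hz' _ _ _ _ ⟨a', b', ha', hb', hab, hba⟩
      have : I z = I z' := by
        simp only [hI, classInner]
        congr 1
        refine Finset.sum_congr rfl fun x _ => ?_
        rw [Phi_equiv hpM χ hz.2.1 hz'.2.1 (fixedBy_anti (Subgroup.zpowers_le.2 x.2) ha')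
          (fixedBy_anti (Subgroup.zpowers_le.2 x.2) hb') hab hba]
      simp only [c, this]
    obtain ⟨d, hd⟩ := prime_dvd_sum_of_relTr (p := p) hn (hcard ▸ dvd_refl p) hi haf hia hai htr hy horth
      hsum c hconj hequiv
    refine ⟨d, ?_⟩
    have hiy : ∀ k, y k * i = y k := fun k => hsum ▸ (corner_of_decomp hy horth k).2
    have hres : classInner (fun x : K' => Phi p P E lam χ.1 i x) ψ' = (p : ℂ) * d := by
      have : ((∑ k, c (y k) : ℤ) : ℂ) = (p : ℂ) * d := by rw [hd]; push_cast; ring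
      rw [← this, Int.cast_sum]
      rw [Finset.sum_congr rfl fun k _ => hcI (y k) (hy k) (hzB _ (hiy k))]
      simp only [hI, classInner]
      rw [← Finset.mul_sum, Finset.sum_comm]
      congr 1
      refine Finset.sum_congr rfl fun x _ => ?_
      rw [← Finset.sum_mul, ← hsum, Phi_sum hpM χ _ y (fun k _ => (hy k).2.1)
        (fun k _ => fixedBy_anti (Subgroup.zpowers_le.2 x.2) (hy k).1) (fun k _ l _ h => horth k l h)]
    have hcardE : (Nat.card K : ℂ) = (p : ℂ) * Nat.card K' := by
      rw [← Nat.cast_mul, Nat.cast_inj, Subgroup.card_eq_card_quotient_mul_card_subgroup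
        (K'.subgroupOf K), hcard, Nat.card_congr (Subgroup.subgroupOfEquivOfLe hle).toEquiv]
    have hsumE : ∑ x : K, Phi p P E lam χ.1 i x * conj (ψ.1 x) =
        ∑ x : K', Phi p P E lam χ.1 i x * conj (ψ' x) := by
      refine (Fintype.sum_of_injective (Subgroup.inclusion hle) (Subgroup.inclusion_injective hle)
        _ _ ?_ fun x => rfl).symm
      intro x hx
      rw [hzero x fun h => hx ⟨⟨x, h⟩, Subtype.ext rfl⟩, zero_mul]
    have hp0 : (p : ℂ) ≠ 0 := Nat.cast_ne_zero.2 hp.out.ne_zero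
    simp only [classInner] at hres ⊢
    rw [hsumE, hcardE, mul_inv, mul_assoc, hres, ← mul_assoc, inv_mul_cancel₀ hp0, one_mul]

theorem exists_isElem_decomp {q : ℕ} (hq : q.Prime) {H : Subgroup G} (hH : IsElementary q H) :
    ∃ R S : Subgroup G, IsElem p R S ∧ R ⊔ S = H := by
  haveI := Char.IsElementary.isNilpotent hq hH
  obtain ⟨Q, k, hQn, hQ, hk⟩ := Char.exists_pRegular_subgroup (E := H) hp.out
  haveI := hQn
  obtain ⟨T⟩ := (inferInstance : Nonempty (Sylow p H))
  have hQp : ¬ p ∣ Nat.card Q := fun h => by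
    obtain ⟨z, hz⟩ := exists_prime_orderOf_dvd_card' p h
    exact (hQ (z : H)).1 z.2 (by rw [Subgroup.orderOf_coe, hz])
  have hdisj : Disjoint (T : Subgroup H) Q := by
    rw [Subgroup.disjoint_def]
    intro z hz hzQ
    obtain ⟨j, hj⟩ := T.2 ⟨z, hz⟩
    have h1 : orderOf z ∣ p ^ j := orderOf_dvd_of_pow_eq_one (congrArg Subtype.val hj)
    have h2 : (orderOf z).Coprime (p ^ j) :=
      ((hp.out.coprime_iff_not_dvd.2 ((hQ z).1 hzQ)).symm).pow_right j
    exact orderOf_eq_one_iff.1 (Nat.eq_one_of_dvd_coprimes h2 dvd_rfl h1)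
  have hcomm := Subgroup.commute_of_normal_of_disjoint (T : Subgroup H) Q inferInstance inferInstance hdisj
  have hR : IsElem p ((T : Subgroup H).map H.subtype) (Q.map H.subtype) := by
    refine ⟨T.2.map _, by rwa [Subgroup.card_map_of_injective H.subtype_injective], ?_⟩
    rintro _ ⟨z, hz, rfl⟩
    rw [Subgroup.mem_centralizer_iff]
    rintro _ ⟨t, ht, rfl⟩
    rw [← map_mul, ← map_mul, (hcomm t z ht hz).eq]
  refine ⟨_, _, hR, Subgroup.eq_of_le_of_card_ge
    (sup_le (Subgroup.map_subtype_le _) (Subgroup.map_subtype_le _)) ?_⟩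
  rw [hR.card_sup, Subgroup.card_map_of_injective H.subtype_injective,
    Subgroup.card_map_of_injective H.subtype_injective, T.card_eq_multiplicity, ← Q.card_mul_index, hk,
    Nat.factorization_mul Nat.card_pos.ne' (pow_ne_zero _ hp.out.ne_zero), Finsupp.add_apply,
    Nat.factorization_eq_zero_of_not_dvd hQp, hp.out.factorization_pow, Finsupp.single_eq_same,
    zero_add, mul_comm]

/-- `star lam χ` is a generalized character for fusion stable `lam` that restricts to generalized
characters of the subgroups of `P`. -/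
theorem isGen_star' (hpM : (p : AlgInt) ∈ M) (hB : IsPBlock M B)
    (hmax : IsMax p (blkG M B) (P, E)) (hl : IsFusionStable p P E lam)
    (hgen : ∀ Q : Subgroup G, Q ≤ P → IsGeneralizedCharacter Q (fun x : Q => lam x))
    (χ : IrrCharacter G) :
    IsGeneralizedCharacter G (star (M := M) p B P E lam χ.1) := by
  haveI := Fintype.ofFinite G
  have hBi := BrauerPairs.isBlockIdem_blkG hB
  refine Char.isGeneralizedCharacter_of_elementary (star_classFun hpM hl hB χ) fun H q hq hH => ?_
  obtain ⟨R, S, hE, rfl⟩ := exists_isElem_decomp (p := p) hq hH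
  obtain ⟨n, y, hy, horth, hsum⟩ := exists_prim_decomp (H := R ⊔ S)
    (BrauerPairs.mem_fixedBy_of_top hBi.mem _) hBi.idem
  have heq : (fun x : (R ⊔ S : Subgroup G) => star (M := M) p B P E lam χ.1 x) =
      ∑ k, fun x : (R ⊔ S : Subgroup G) => Phi p P E lam χ.1 (y k) x := by
    funext x
    rw [Finset.sum_apply, star, ← hsum, Phi_sum hpM χ _ y (fun k _ => (hy k).2.1)
      (fun k _ => fixedBy_anti (Subgroup.zpowers_le.2 x.2) (hy k).1) (fun k _ l _ h => horth k l h)]
  rw [heq]
  exact Char.IsGeneralizedCharacter.sum _ fun k _ =>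
    isGen_Phi_prim hpM hB hmax hl hgen χ R hE (y k) (hy k) (hsum ▸ (corner_of_decomp hy horth k).2)

/-- `star lam χ` is a generalized character. -/
theorem isGen_star (hpM : (p : AlgInt) ∈ M) (hB : IsPBlock M B)
    (hmax : IsMax p (blkG M B) (P, E)) (hl : IsStable p P E lam) (χ : IrrCharacter G) :
    IsGeneralizedCharacter G (star (M := M) p B P E lam χ.1) := by
  refine isGen_star' hpM hB hmax hl.fusion (fun Q hQ => ?_) χ
  let L : Q →* ℂ :=
    { toFun := fun x => lam x
      map_one' := hl.map_one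
      map_mul' := fun x y => hl.map_mul _ (hQ x.2) _ (hQ y.2) }
  exact Char.IsCharacter.isGeneralized
    (Char.IsIrrCharacter.isCharacter (Char.isIrrCharacter_of_monoidHom L))

end Cfsg.Agent.Star
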