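import Cfsg.Agent.Lib.Star.Def
import Cfsg.Agent.Lib.Blocks.Contribution
import Cfsg.Agent.Lib.Blocks.HeightZeroSubsection
import Cfsg.Agent.Lib.BrauerPairs.CorrespondenceNormal

/-!
# The parts `χ^{(u,f)}` as block parts on `C(u)`, and the norm of `star lam χ`
-/

set_option autoImplicit false
set_option linter.unusedSectionVars false
set_option linter.style.haveILetI false

namespace Cfsg.Agent.Star

open Cfsg MonoidAlgebra
open Agent.Blocks
open Cfsg.Agent.BrauerPairs (fixedBy br IsPairOf IsMax blk blkG)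
open scoped Classical Cfsg.Agent.Blocks ComplexConjugate

universe u

section BlockPart

variable {H : Type u} [Group H] [Fintype H]

theorem blockPart_apply (b : Set (IrrCharacter H)) (θ : H → ℂ) (y : H) :
    blockPart b θ y = ∑ η ∈ Finset.univ.filter (· ∈ b), classInner θ η.1 * η.1 y := by
  rw [blockPart, finsum_mem_eq_sum_of_inter_support_eq _ (t := Finset.univ.filter (· ∈ b))
    (by ext; simp)]
  refine Finset.sum_congr rfl fun η _ => ?_
  congr 2
  exact Subsingleton.elim _ _

theorem blockPart_eq (b : Set (IrrCharacter H)) (θ : H → ℂ) :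
    blockPart b θ = ∑ η ∈ Finset.univ.filter (· ∈ b), classInner θ η.1 • η.1 := by
  funext y
  rw [blockPart_apply, Finset.sum_apply]
  rfl

theorem classInner_blockPart (b : Set (IrrCharacter H)) (θ : H → ℂ) (ν : IrrCharacter H) :
    classInner (blockPart b θ) ν.1 = if ν ∈ b then classInner θ ν.1 else 0 := by
  rw [blockPart_eq, Char.classInner_sum_left]
  simp only [Char.classInner_smul_left, Char.classInner_irr, mul_ite, mul_one, mul_zero]
  rw [Finset.sum_ite_eq' (Finset.univ.filter (· ∈ b)) ν fun η => classInner θ η.1]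
  simp

theorem isClassFunction_blockPart (b : Set (IrrCharacter H)) (θ : H → ℂ) :
    IsClassFunction H (blockPart b θ) := fun x y => by
  simp only [blockPart_apply]
  exact Finset.sum_congr rfl fun η _ => by rw [irr_classFun η x y]

variable {M : Ideal AlgInt} [M.IsMaximal] {p : ℕ} [hp : Fact p.Prime]

theorem sum_regular_blockPart (hpM : (p : AlgInt) ∈ M) {b b' : Set (IrrCharacter H)}
    (hb : IsPBlock M b) (hb' : IsPBlock M b') (hne : b ≠ b') (θ θ' : H → ℂ) :
    ∑ c ∈ Finset.univ.filter (fun c : H => IsPRegular p c),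
      blockPart b θ c * conj (blockPart b' θ' c) = 0 := by
  simp only [blockPart_apply, map_sum, Finset.sum_mul_sum]
  rw [Finset.sum_comm]
  refine Finset.sum_eq_zero fun η hη => ?_
  rw [Finset.sum_comm]
  refine Finset.sum_eq_zero fun ν hν => ?_
  have hν' : ν ∉ b := fun h => hne (block_eq_of_mem hb hb' h (Finset.mem_filter.1 hν).2)
  have h0 := BrauerPairs.regDot_eq_zero hpM hp.out hb (Finset.mem_filter.1 hη).2 hν'
  rw [BrauerPairs.regDot, classInner, mul_eq_zero] at h0
  have h1 := h0.resolve_left (inv_ne_zero (Nat.cast_ne_zero.2 Nat.card_pos.ne'))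
  calc ∑ c ∈ Finset.univ.filter (fun c : H => IsPRegular p c),
        classInner θ η.1 * η.1 c * conj (classInner θ' ν.1 * ν.1 c)
      = classInner θ η.1 * conj (classInner θ' ν.1) *
          ∑ c, Char.regFun p η.1 c * conj (ν.1 c) := by
        rw [Finset.mul_sum, Finset.sum_filter]
        refine Finset.sum_congr rfl fun c _ => ?_
        simp only [Char.regFun, IsPRegular, map_mul]
        split_ifs <;> ring
    _ = 0 := by rw [h1, mul_zero]

theorem blockPart_congr_regular (hpM : (p : AlgInt) ∈ M) {b : Set (IrrCharacter H)} (hb : IsPBlock M b)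
    {θ θ' : H → ℂ} (h : ∀ y : H, IsPRegular p y → θ y = θ' y) {c : H} (hc : IsPRegular p c) :
    blockPart b θ c = blockPart b θ' c := by
  have hz : ∀ v z : H, IsPPart p v z → IsConj (1 : H) z → (θ - θ') v = 0 := by
    intro v z hv hz1
    rw [isConj_one_right] at hz1
    obtain ⟨y, hy, -, -, hyr⟩ := hv
    rw [hz1, one_mul] at hy
    rw [Pi.sub_apply, sub_eq_zero]
    exact h v (hy ▸ hyr)
  have h1 := blockPart_eq_zero_of_section hpM hz hb (u := c) (z := 1)
    ⟨c, one_mul _, Commute.one_left c, ⟨0, by rw [orderOf_one, pow_zero]⟩, hc⟩ (IsConj.refl _)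
  rw [blockPart_apply] at h1
  simp only [Char.classInner_sub_left, sub_mul, Finset.sum_sub_distrib] at h1
  rw [blockPart_apply, blockPart_apply]
  exact sub_eq_zero.1 h1

end BlockPart

variable {M : Ideal AlgInt} [M.IsMaximal] {G : Type u} [Group G] [Finite G] {p : ℕ} [hp : Fact p.Prime]
  [CharP (AlgInt ⧸ M) p] {B : Set (IrrCharacter G)} {P : Subgroup G}
  {E : MonoidAlgebra (AlgInt ⧸ M) G} {lam : G → ℂ}

/-- The block with idempotent `f`. -/
noncomputable def blkSet (M : Ideal AlgInt) [M.IsMaximal] (u : G) (f : MonoidAlgebra (AlgInt ⧸ M) G) :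
    Set (IrrCharacter (Subgroup.centralizer ({u} : Set G))) :=
  if h : ∃ b, IsPBlock M b ∧ blk M (Subgroup.centralizer ({u} : Set G)) b = f then h.choose else ∅

theorem blkSet_spec {u : G} {f : MonoidAlgebra (AlgInt ⧸ M) G} (hf : f ∈ blocksAt M u) :
    IsPBlock M (blkSet M u f) ∧ blk M _ (blkSet M u f) = f := by
  have h := BrauerPairs.exists_eq_blk _ (isBlockIdem_of_mem hf)
  rw [blkSet, dif_pos h]
  exact h.choose_spec

theorem blkSet_inj {u : G} {f f' : MonoidAlgebra (AlgInt ⧸ M) G} (hf : f ∈ blocksAt M u)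
    (hf' : f' ∈ blocksAt M u) (h : blkSet M u f = blkSet M u f') : f = f' := by
  rw [← (blkSet_spec hf).2, h, (blkSet_spec hf').2]

theorem isInducedBlock_blkSet_iff (hpM : (p : AlgInt) ∈ M) (hB : IsPBlock M B) {u : G}
    (hu : ∃ k, orderOf u = p ^ k) {f : MonoidAlgebra (AlgInt ⧸ M) G} (hf : f ∈ blocksAt M u) :
    IsInducedBlock M _ (blkSet M u f) B ↔ IsPairOf p (blkG M B) (Subgroup.zpowers u, f) := by
  obtain ⟨hb, he⟩ := blkSet_spec hf
  rw [BrauerPairs.isInducedBlock_iff_br hpM (isPGroup_zpowers hu) zpowers_le_centralizer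
    centralizer_zpowers_eq.le (centralizer_zpowers_eq.ge.trans (Subgroup.centralizer_le_normalizer _))
    hb hB, he]
  exact ⟨fun h => ⟨isPair_of_mem hu hf, h⟩, fun h => h.2⟩

theorem isPPart_mul_regular {u : G} (hu : ∃ k, orderOf u = p ^ k)
    {c : Subgroup.centralizer ({u} : Set G)} (hc : IsPRegular p c) : IsPPart p (u * (c : G)) u :=
  isPPart_mul (Subgroup.mem_centralizer_singleton_iff.1 c.2).symm hu (by
    show ¬ p ∣ orderOf (c : G)
    rw [Subgroup.orderOf_coe]
    exact hc)

theorem kappa_blk_eq_blockPart (hpM : (p : AlgInt) ∈ M) {u : G} (hu : ∃ k, orderOf u = p ^ k)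
    {c : Subgroup.centralizer ({u} : Set G)} (hc : IsPRegular p c) (χ : IrrCharacter G)
    {f : MonoidAlgebra (AlgInt ⧸ M) G} (hf : f ∈ blocksAt M u) :
    kappa M χ.1 (u * (c : G)) u f = blockPart (blkSet M u f) (secFun u χ.1) c := by
  haveI := Fintype.ofFinite (Subgroup.centralizer ({u} : Set G))
  obtain ⟨hb, he⟩ := blkSet_spec hf
  conv_lhs => rw [← he]
  rw [kappa_blk hpM (isPPart_mul_regular hu hc) χ hb,
    show u * (c : G) = ((secElt u * c : Subgroup.centralizer ({u} : Set G)) : G) from rfl,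
    chiL_inclA_mul_single, ← sum_mul_blockCoeff (isClassFunction_secFun χ.1 (irr_classFun χ))]
  refine Fintype.sum_equiv (Equiv.mulRight c) _ _ fun k => ?_
  simp only [Equiv.coe_mulRight, mul_inv_cancel_right, coeff_blockIdem]
  show _ * χ.1 ((k : G) * (u * c)) = χ.1 (u * ((k : G) * c)) * _
  rw [← mul_assoc, Subgroup.mem_centralizer_singleton_iff.1 k.2, mul_assoc, mul_comm]

theorem sum_kappa_blocksAt (hpM : (p : AlgInt) ∈ M) {g u : G} (hg : IsPPart p g u) (χ : IrrCharacter G) :
    ∑ f ∈ blocksAt M u, kappa M χ.1 g u f = χ.1 g := by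
  have hu := IsPPart.isPElement hg
  rw [← kappa_sum hpM hg χ (blocksAt M u) (fun f => f) (fun f hf => (isBlockIdem_of_mem hf).idem)
    (fun f hf => BrauerPairs.fixedBy_anti (Subgroup.zpowers_le.2 (mem_centralizer_of_isPPart hg))
      (isBlockIdem_of_mem hf).mem.2)
    (fun f hf => BrauerPairs.br_eq_self fun x hx => (isPair_of_mem hu hf).2.mem.1 x hx)
    (fun f hf f' hf' hne => (isBlockIdem_of_mem hf').mul_eq_zero_of_ne (isBlockIdem_of_mem hf) hne.symm),
    sum_blocksAt, kappa_eq hpM hg χ (X := 1) ⟨scoeff_one, one_mem _, one_mul _,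
      by rw [redA_one, BrauerPairs.br_one]⟩, one_mul, chiL_single, one_mul]

theorem norm_lamT (hB : IsPBlock M B) (hmax : IsMax p (blkG M B) (P, E)) (hl : IsStable p P E lam)
    {u : G} {f : MonoidAlgebra (AlgInt ⧸ M) G} (hf : IsPairOf p (blkG M B) (Subgroup.zpowers u, f)) :
    lamT p P E lam u f * conj (lamT p P E lam u f) = 1 := by
  obtain ⟨g, hg, hgP⟩ := exists_conj_ple_of_pair hB hmax hf
  rw [lamT_eq hl hg, Complex.mul_conj, Complex.normSq_eq_norm_sq, hl.norm_eq_one hgP]
  simp

theorem sum_fibre_eq [Fintype G] (f : G → ℂ) {u : G} (hu : ∃ k, orderOf u = p ^ k)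
    [Fintype (Subgroup.centralizer ({u} : Set G))] :
    ∑ g ∈ Finset.univ.filter (fun g : G => ppart p g = u), f g =
      ∑ c ∈ Finset.univ.filter (fun c : Subgroup.centralizer ({u} : Set G) => IsPRegular p c),
        f (u * (c : G)) := by
  symm
  refine Finset.sum_bij (fun c _ => u * (c : G)) (fun c hc => ?_)
    (fun c _ d _ e => Subtype.ext (mul_left_cancel e)) (fun g hg => ?_) (fun _ _ => rfl)
  · exact Finset.mem_filter.2 ⟨Finset.mem_univ _,
      ppart_eq (isPPart_mul_regular hu (Finset.mem_filter.1 hc).2)⟩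
  · obtain ⟨c, hc, hcr⟩ := exists_regular_factor
      ((Finset.mem_filter.1 hg).2 ▸ isPPart_ppart g : IsPPart p g u)
    exact ⟨c, Finset.mem_filter.2 ⟨Finset.mem_univ _, hcr⟩, hc⟩

theorem sum_norm_sum_blocks (hpM : (p : AlgInt) ∈ M) {u : G}
    [Fintype (Subgroup.centralizer ({u} : Set G))] (θ : Subgroup.centralizer ({u} : Set G) → ℂ)
    (a : MonoidAlgebra (AlgInt ⧸ M) G → ℂ) :
    ∑ c ∈ Finset.univ.filter (fun c : Subgroup.centralizer ({u} : Set G) => IsPRegular p c),
        (∑ f ∈ blocksAt M u, a f * blockPart (blkSet M u f) θ c) *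
          conj (∑ f ∈ blocksAt M u, a f * blockPart (blkSet M u f) θ c) =
      ∑ f ∈ blocksAt M u, a f * conj (a f) *
        ∑ c ∈ Finset.univ.filter (fun c : Subgroup.centralizer ({u} : Set G) => IsPRegular p c),
          blockPart (blkSet M u f) θ c * conj (blockPart (blkSet M u f) θ c) := by
  simp only [map_sum, Finset.sum_mul_sum, map_mul]
  rw [Finset.sum_comm]
  refine Finset.sum_congr rfl fun f hf => ?_
  rw [Finset.sum_comm, Finset.sum_eq_single_of_mem f hf fun f' hf' hne => ?_, Finset.mul_sum]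
  · exact Finset.sum_congr rfl fun c _ => by ring
  · calc _ = a f * conj (a f') *
          ∑ c ∈ Finset.univ.filter (fun c : Subgroup.centralizer ({u} : Set G) => IsPRegular p c),
            blockPart (blkSet M u f) θ c * conj (blockPart (blkSet M u f') θ c) := by
          rw [Finset.mul_sum]
          exact Finset.sum_congr rfl fun c _ => by ring
      _ = 0 := by
          rw [sum_regular_blockPart hpM (blkSet_spec hf).1 (blkSet_spec hf').1
            (fun e => hne (blkSet_inj hf hf' e).symm), mul_zero]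

/-- `star` preserves the norm on the block. -/
theorem sum_star_mul_conj [Fintype G] (hpM : (p : AlgInt) ∈ M) (hB : IsPBlock M B)
    (hmax : IsMax p (blkG M B) (P, E)) (hl : IsStable p P E lam) {χ : IrrCharacter G} (hχ : χ ∈ B) :
    ∑ g : G, star (M := M) p B P E lam χ.1 g * conj (star (M := M) p B P E lam χ.1 g) =
      ∑ g : G, χ.1 g * conj (χ.1 g) := by
  rw [← Finset.sum_fiberwise Finset.univ (ppart p) _,
    ← Finset.sum_fiberwise Finset.univ (ppart p) fun g => χ.1 g * conj (χ.1 g)]
  refine Finset.sum_congr rfl fun u _ => ?_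
  by_cases hu : ∃ k, orderOf u = p ^ k
  swap
  · rw [Finset.filter_eq_empty_iff.2 fun g _ h => hu (IsPPart.isPElement (h ▸ isPPart_ppart g))]
    simp
  haveI := Fintype.ofFinite (Subgroup.centralizer ({u} : Set G))
  rw [sum_fibre_eq _ hu, sum_fibre_eq _ hu]
  set θ := secFun u χ.1 with hθ
  have e1 : ∀ c ∈ Finset.univ.filter (fun c : Subgroup.centralizer ({u} : Set G) => IsPRegular p c),
      star (M := M) p B P E lam χ.1 (u * (c : G)) =
        ∑ f ∈ blocksAt M u, lamT p P E lam u f * blockPart (blkSet M u f) θ c := by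
    intro c hc
    have hcr := (Finset.mem_filter.1 hc).2
    rw [star_eq hpM hB hmax (isPPart_mul_regular hu hcr) χ]
    exact Finset.sum_congr rfl fun f hf => by rw [kappa_blk_eq_blockPart hpM hu hcr χ hf]
  have e2 : ∀ c ∈ Finset.univ.filter (fun c : Subgroup.centralizer ({u} : Set G) => IsPRegular p c),
      χ.1 (u * (c : G)) = ∑ f ∈ blocksAt M u, (1 : ℂ) * blockPart (blkSet M u f) θ c := by
    intro c hc
    have hcr := (Finset.mem_filter.1 hc).2
    rw [← sum_kappa_blocksAt (M := M) hpM (isPPart_mul_regular hu hcr) χ]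
    exact Finset.sum_congr rfl fun f hf => by rw [kappa_blk_eq_blockPart hpM hu hcr χ hf, one_mul]
  refine (Finset.sum_congr rfl (g := fun c : Subgroup.centralizer ({u} : Set G) =>
      (∑ f ∈ blocksAt M u, lamT p P E lam u f * blockPart (blkSet M u f) θ c) *
        conj (∑ f ∈ blocksAt M u, lamT p P E lam u f * blockPart (blkSet M u f) θ c))
      fun c hc => by rw [e1 c hc]).trans ?_
  refine Eq.trans ?_ (Finset.sum_congr rfl (g := fun c : Subgroup.centralizer ({u} : Set G) =>
      (∑ f ∈ blocksAt M u, (1 : ℂ) * blockPart (blkSet M u f) θ c) *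
        conj (∑ f ∈ blocksAt M u, (1 : ℂ) * blockPart (blkSet M u f) θ c))
      fun c hc => by rw [e2 c hc]).symm
  rw [sum_norm_sum_blocks hpM θ (lamT p P E lam u), sum_norm_sum_blocks hpM θ (fun _ => 1)]
  refine Finset.sum_congr rfl fun f hf => ?_
  by_cases hp' : IsPairOf p (blkG M B) (Subgroup.zpowers u, f)
  · rw [norm_lamT hB hmax hl hp', map_one, one_mul (1 : ℂ)]
  · have h0 : ∀ c ∈ Finset.univ.filter (fun c : Subgroup.centralizer ({u} : Set G) => IsPRegular p c),
        blockPart (blkSet M u f) θ c = 0 := fun c hc => by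
      rw [← kappa_blk_eq_blockPart hpM hu (Finset.mem_filter.1 hc).2 χ hf]
      exact kappa_eq_zero_of_not_pair hpM hB (isPPart_mul_regular hu (Finset.mem_filter.1 hc).2) hχ hf hp'
    rw [Finset.sum_eq_zero fun c hc => by rw [h0 c hc, zero_mul], mul_zero, mul_zero]

end Cfsg.Agent.Star
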