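import Cfsg.Agent.Lib.Star.Parts
import Cfsg.Agent.Lib.Star.Integrality
import Cfsg.Agent.Lib.Blocks.ContributionCongr
import Cfsg.Agent.Lib.BrauerPairs.LocalBridge
import Cfsg.Agent.Lib.BrauerPairs.LocalFusion

/-!
# The action of the stable linear characters on the characters of a block

`star lam χ` is irreducible in `B` with the degree and height of `χ`; it is multiplicative in `lam`;
if it fixes `χ` then `lam u = 1` for height zero and `u ∈ P`, or for any height and `u ∈ Z(P)`.
-/

set_option autoImplicit false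
set_option linter.unusedSectionVars false
set_option linter.style.haveILetI false

namespace Cfsg.Agent.Star

open Cfsg MonoidAlgebra
open Agent.Blocks
open Cfsg.Agent.BrauerPairs (IsPairOf IsMax PLE conjPair blk blkG)
open scoped Classical Cfsg.Agent.Blocks ComplexConjugate

universe u

variable {M : Ideal AlgInt} [M.IsMaximal] {G : Type u} [Group G] [Finite G] {p : ℕ} [hp : Fact p.Prime]
  [CharP (AlgInt ⧸ M) p] {B : Set (IrrCharacter G)} {P : Subgroup G}
  {E : MonoidAlgebra (AlgInt ⧸ M) G} {lam mu : G → ℂ}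

/-- On a `p`-regular element `star lam χ` agrees with `χ`. -/
theorem star_regular (hpM : (p : AlgInt) ∈ M) (hB : IsPBlock M B) (hmax : IsMax p (blkG M B) (P, E))
    (hl : IsStable p P E lam) {χ : IrrCharacter G} (hχ : χ ∈ B) {g : G} (hg : IsPPart p g 1) :
    star (M := M) p B P E lam χ.1 g = χ.1 g := by
  rw [star_eq hpM hB hmax hg χ, ← sum_kappa_blocksAt (M := M) hpM hg χ]
  refine Finset.sum_congr rfl fun f hf => ?_
  by_cases hp' : IsPairOf p (blkG M B) (Subgroup.zpowers (1 : G), f)
  · obtain ⟨c, hc, -⟩ := exists_conj_ple_of_pair hB hmax hp'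
    rw [lamT_eq hl hc, mul_one, mul_inv_cancel, hl.map_one, one_mul]
  · rw [kappa_eq_zero_of_not_pair hpM hB hg hχ hf hp', mul_zero]

theorem isPPart_of_isPRegular {g : G} (hg : IsPRegular p g) : IsPPart p g 1 :=
  ⟨g, one_mul g, Commute.one_left g, ⟨0, by rw [orderOf_one, pow_zero]⟩, hg⟩

/-- `star lam χ` is an irreducible character of `B` of the same degree. -/
theorem exists_star_irr (hpM : (p : AlgInt) ∈ M) (hB : IsPBlock M B)
    (hmax : IsMax p (blkG M B) (P, E)) (hl : IsStable p P E lam) {χ : IrrCharacter G} (hχ : χ ∈ B) :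
    ∃ ψ : IrrCharacter G, ψ.1 = star (M := M) p B P E lam χ.1 ∧ ψ ∈ B ∧ ψ.1 1 = χ.1 1 := by
  haveI := Fintype.ofFinite G
  have h1 := star_regular hpM hB hmax hl hχ (g := 1) (isPPart_one (G := G))
  have hn : classInner (star (M := M) p B P E lam χ.1) (star (M := M) p B P E lam χ.1) = 1 := by
    rw [← Char.classInner_irr_self χ.2, classInner, classInner, sum_star_mul_conj hpM hB hmax hl hχ]
  obtain ⟨ψ, hψ⟩ := Char.IsGeneralizedCharacter.irr_or_neg_of_norm_one
    (isGen_star hpM hB hmax hl χ) hn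
  rcases hψ with hψ | hψ
  · refine ⟨ψ, hψ.symm, ?_, by rw [← hψ, h1]⟩
    have heq : chiL ψ.1 (blockIdem B) = chiL χ.1 (blockIdem B) := by
      rw [chiL_eq_sum, chiL_eq_sum]
      refine Finset.sum_congr rfl fun g _ => ?_
      by_cases hg : IsPRegular p g
      · rw [← hψ, star_regular hpM hB hmax hl hχ (isPPart_of_isPRegular hg)]
      · rw [coeff_blockIdem, blockCoeff_eq_zero hpM hB hg, zero_mul, zero_mul]
    have ho : omega ψ.1 (blockIdem B) = omega χ.1 (blockIdem B) := by
      rw [omega, omega, heq, ← hψ, h1]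
    rw [omega_blockIdem, omega_blockIdem, if_pos hχ] at ho
    by_contra hne
    rw [if_neg hne] at ho
    exact zero_ne_one ho
  · exfalso
    obtain ⟨n, hn'⟩ := Char.IsCharacter.apply_one (Char.irr_isCharacter ψ)
    obtain ⟨m, hm'⟩ := Char.IsCharacter.apply_one (Char.irr_isCharacter χ)
    have h2 : (m : ℂ) = -(n : ℂ) := by rw [← hn', ← hm', ← h1, hψ]; rfl
    have h3 : m + n = 0 := by
      have : ((m + n : ℕ) : ℂ) = 0 := by push_cast; rw [h2]; ring
      exact_mod_cast this
    exact irr_one_ne_zero χ (by rw [hm', show m = 0 by omega, Nat.cast_zero])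

theorem lamT_mul (hl : IsStable p P E lam) (hm : IsStable p P E mu) (hlm : IsStable p P E (mu * lam))
    (u : G) (f : MonoidAlgebra (AlgInt ⧸ M) G) :
    lamT p P E (mu * lam) u f = lamT p P E mu u f * lamT p P E lam u f := by
  by_cases h : ∃ g : G, PLE p (conjPair g (Subgroup.zpowers u, f)) (P, E)
  · obtain ⟨g, hg⟩ := h
    rw [lamT_eq hlm hg, lamT_eq hm hg, lamT_eq hl hg]
    rfl
  · rw [lamT, lamT, lamT, dif_neg h, dif_neg h, dif_neg h, mul_zero]

/-- The part of `star lam χ` at a pair. -/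
theorem blockPart_star (hpM : (p : AlgInt) ∈ M) (hB : IsPBlock M B)
    (hmax : IsMax p (blkG M B) (P, E)) {χ ψ : IrrCharacter G}
    (hψ : ψ.1 = star (M := M) p B P E lam χ.1) {u : G} (hu : ∃ k, orderOf u = p ^ k)
    {c : Subgroup.centralizer ({u} : Set G)} (hc : IsPRegular p c)
    {f : MonoidAlgebra (AlgInt ⧸ M) G} (hf : f ∈ blocksAt M u) :
    blockPart (blkSet M u f) (secFun u ψ.1) c =
      lamT p P E lam u f * blockPart (blkSet M u f) (secFun u χ.1) c := by
  haveI := Fintype.ofFinite (Subgroup.centralizer ({u} : Set G))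
  set θ := secFun u χ.1
  rw [blockPart_congr_regular hpM (blkSet_spec hf).1
    (θ' := ∑ f' ∈ blocksAt M u, lamT p P E lam u f' • blockPart (blkSet M u f') θ) (fun y hy => ?_) hc]
  · rw [blockPart_apply, blockPart_apply (θ := θ), Finset.mul_sum]
    refine Finset.sum_congr rfl fun η hη => ?_
    rw [← mul_assoc]
    congr 1
    rw [Char.classInner_sum_left, Finset.sum_eq_single_of_mem f hf fun f' hf' hne => ?_]
    · rw [Char.classInner_smul_left, classInner_blockPart, if_pos (Finset.mem_filter.1 hη).2]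
    · rw [Char.classInner_smul_left, classInner_blockPart, if_neg, mul_zero]
      exact fun h => hne (blkSet_inj hf' hf
        (block_eq_of_mem (blkSet_spec hf').1 (blkSet_spec hf).1 h (Finset.mem_filter.1 hη).2))
  · show ψ.1 (u * (y : G)) = _
    rw [hψ, star_eq hpM hB hmax (isPPart_mul_regular hu hy) χ, Finset.sum_apply]
    refine Finset.sum_congr rfl fun f' hf' => ?_
    rw [kappa_blk_eq_blockPart hpM hu hy χ hf']
    rfl

/-- Composition. -/
theorem star_star (hpM : (p : AlgInt) ∈ M) (hB : IsPBlock M B)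
    (hmax : IsMax p (blkG M B) (P, E)) (hl : IsStable p P E lam) (hm : IsStable p P E mu)
    (hlm : IsStable p P E (mu * lam)) {χ ψ : IrrCharacter G}
    (hψ : ψ.1 = star (M := M) p B P E lam χ.1) :
    star (M := M) p B P E mu ψ.1 = star (M := M) p B P E (mu * lam) χ.1 := by
  funext g
  have hg := isPPart_ppart (p := p) g
  have hu := IsPPart.isPElement hg
  obtain ⟨c, hc, hcr⟩ := exists_regular_factor hg
  rw [star_eq hpM hB hmax hg ψ, star_eq hpM hB hmax hg χ]
  refine Finset.sum_congr rfl fun f hf => ?_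
  have e : ∀ φ : IrrCharacter G, kappa M φ.1 g (ppart p g) f =
      blockPart (blkSet M (ppart p g) f) (secFun (ppart p g) φ.1) c := fun φ => by
    rw [← kappa_blk_eq_blockPart hpM hu hcr φ hf, hc]
  rw [e, e, blockPart_star hpM hB hmax hψ hu hcr hf, lamT_mul hl hm hlm]
  ring

theorem star_of_eq_one (hpM : (p : AlgInt) ∈ M) (hB : IsPBlock M B)
    (hmax : IsMax p (blkG M B) (P, E)) (hl : IsStable p P E lam) (h1 : ∀ x ∈ P, lam x = 1)
    {χ : IrrCharacter G} (hχ : χ ∈ B) : star (M := M) p B P E lam χ.1 = χ.1 := by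
  funext g
  have hg := isPPart_ppart (p := p) g
  rw [star_eq hpM hB hmax hg χ, ← sum_kappa_blocksAt (M := M) hpM hg χ]
  refine Finset.sum_congr rfl fun f hf => ?_
  by_cases hp' : IsPairOf p (blkG M B) (Subgroup.zpowers (ppart p g), f)
  · obtain ⟨c, hc, hcP⟩ := exists_conj_ple_of_pair hB hmax hp'
    rw [lamT_eq hl hc, h1 _ hcP, one_mul]
  · rw [kappa_eq_zero_of_not_pair hpM hB hg hχ hf hp', mul_zero]

/-- If a part of `χ` is nonzero, a fixing `lam` is trivial there. -/
theorem lam_eq_one_of_fixed (hpM : (p : AlgInt) ∈ M) (hB : IsPBlock M B)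
    (hmax : IsMax p (blkG M B) (P, E)) (hl : IsStable p P E lam) {χ : IrrCharacter G}
    (hfix : χ.1 = star (M := M) p B P E lam χ.1) {u : G} (huP : u ∈ P)
    (hne : ∀ f ∈ blocksAt M u, IsInducedBlock M _ (blkSet M u f) B →
      PLE p (Subgroup.zpowers u, f) (P, E) → ∃ c : Subgroup.centralizer ({u} : Set G),
        IsPRegular p c ∧ blockPart (blkSet M u f) (secFun u χ.1) c ≠ 0) :
    lam u = 1 := by
  obtain ⟨f, hf⟩ := BrauerPairs.exists_ple (fun H => BrauerPairs.hasBlocks M H) hmax.1.1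
    (Subgroup.zpowers u) (Subgroup.zpowers_le.2 huP)
  have hpair := hf.isPair_left hmax.1.1
  have hu : ∃ k, orderOf u = p ^ k := by
    obtain ⟨k, hk⟩ := IsPGroup.iff_orderOf.1 hmax.1.1.1 ⟨u, huP⟩
    exact ⟨k, by rw [← hk, Subgroup.orderOf_mk]⟩
  have hfm : f ∈ blocksAt M u := mem_blocksAt (by rw [← centralizer_zpowers_eq]; exact hpair.2)
  have hpo : IsPairOf p (blkG M B) (Subgroup.zpowers u, f) :=
    (BrauerPairs.ple_isPairOf_iff (BrauerPairs.isBlockIdem_blkG hB) hf).1 hmax.1
  obtain ⟨c, hc, hnz⟩ := hne f hfm ((isInducedBlock_blkSet_iff hpM hB hu hfm).2 hpo) hf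
  have h := blockPart_star hpM hB hmax hfix hu hc hfm
  rw [lamT_eq (g := 1) hl (by rw [BrauerPairs.conjPair_one]; exact hf), one_mul, inv_one, mul_one] at h
  exact mul_right_cancel₀ hnz (by rw [one_mul]; exact h.symm)

theorem lam_eq_one_of_height_zero (hpM : (p : AlgInt) ∈ M) (hB : IsPBlock M B)
    (hmax : IsMax p (blkG M B) (P, E)) (hl : IsStable p P E lam) {χ : IrrCharacter G} (hχ : χ ∈ B)
    (h0 : blockHeight p B χ.1 = 0) (hfix : χ.1 = star (M := M) p B P E lam χ.1) {u : G} (huP : u ∈ P) :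
    lam u = 1 := by
  obtain ⟨k, hk⟩ := IsPGroup.iff_orderOf.1 hmax.1.1.1 ⟨u, huP⟩
  rw [Subgroup.orderOf_mk] at hk
  haveI := Fintype.ofFinite G
  refine lam_eq_one_of_fixed hpM hB hmax hl hfix huP fun f _ hind _ => ?_
  obtain ⟨y, hy, hne⟩ := exists_blockPart_translate_ne_zero hpM hk hχ h0 hind
  exact ⟨y, hy, hne⟩

/-- The defect of a major subsection. -/
theorem blockDefect_blkSet (hpM : (p : AlgInt) ∈ M) (hB : IsPBlock M B)
    (hmax : IsMax p (blkG M B) (P, E)) {u : G} (hu : u ∈ P ⊓ Subgroup.centralizer (P : Set G))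
    {f : MonoidAlgebra (AlgInt ⧸ M) G} (hfm : f ∈ blocksAt M u)
    (hf : PLE p (Subgroup.zpowers u, f) (P, E)) : blockDefect p (blkSet M u f) = blockDefect p B := by
  obtain ⟨hb, he⟩ := blkSet_spec hfm
  have hPC : P ≤ Subgroup.centralizer (Subgroup.zpowers u : Set G) := by
    rw [centralizer_zpowers_eq]
    exact fun x hx => Subgroup.mem_centralizer_singleton_iff.2 (Subgroup.mem_centralizer_iff.1 hu.2 x hx)
  have hinf : P ⊓ Subgroup.centralizer (Subgroup.zpowers u : Set G) = P := inf_eq_left.2 hPC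
  have hD := (BrauerPairs.forall_centralizer_le_iff (fun H => BrauerPairs.hasBlocks M H)
    (BrauerPairs.isBlockIdem_blkG hB) hmax hf).1 fun g _ => by
      rw [hinf]; exact Subgroup.card_le_of_le inf_le_left
  rw [hinf, centralizer_zpowers_eq, ← he] at hD
  have hPC' : P ≤ Subgroup.centralizer ({u} : Set G) := centralizer_zpowers_eq (x := u) ▸ hPC
  have h1 := card_defectGroup hpM hb ((BrauerPairs.isDefectGroup_subgroupOf_iff hb hPC').2 hD)
  have h2 := card_defectGroup hpM hB (BrauerPairs.isDefectGroup_of_isMax hB hmax)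
  rw [Nat.card_congr (Subgroup.subgroupOfEquivOfLe hPC').toEquiv, h2] at h1
  exact (Nat.pow_right_injective hp.out.two_le h1).symm

theorem lam_eq_one_of_center (hpM : (p : AlgInt) ∈ M) (hB : IsPBlock M B)
    (hmax : IsMax p (blkG M B) (P, E)) (hl : IsStable p P E lam) {χ : IrrCharacter G} (hχ : χ ∈ B)
    (hfix : χ.1 = star (M := M) p B P E lam χ.1) {u : G}
    (hu : u ∈ P ⊓ Subgroup.centralizer (P : Set G)) : lam u = 1 := by
  obtain ⟨k, hk⟩ := IsPGroup.iff_orderOf.1 hmax.1.1.1 ⟨u, hu.1⟩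
  rw [Subgroup.orderOf_mk] at hk
  haveI := Fintype.ofFinite G
  haveI := Fintype.ofFinite (Subgroup.centralizer ({u} : Set G))
  obtain ⟨ψ, hψ, hψ0⟩ := exists_height_zero hpM hB
  refine lam_eq_one_of_fixed hpM hB hmax hl hfix hu.1 fun f hfm hind hf => ?_
  by_contra hno
  simp only [not_exists, not_and, not_not] at hno
  have hd := blockDefect_blkSet hpM hB hmax hu hfm hf
  have h0 := (contribution_height hpM hk hind hd hχ hψ hψ0).2.1
  refine h0 ?_
  have hm : contribution p (blkSet M u f) χ.1 ψ.1 = 0 := by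
    rw [← conj_contribution hpM hind.1 ψ χ]
    refine (map_eq_zero _).2 (Finset.sum_eq_zero fun η hη => ?_)
    have hz : BrauerPairs.regDot p (secFun u χ.1) η.1 = 0 := by
      rw [regDot_secFun hpM hind.1 χ (Finset.mem_filter.1 hη).2]
      have : ∀ η' : IrrCharacter (Subgroup.centralizer ({u} : Set G)),
          BrauerPairs.regDot p η'.1 η.1 = (Nat.card (Subgroup.centralizer ({u} : Set G)) : ℂ)⁻¹ *
            ∑ c, Char.regFun p η'.1 c * conj (η.1 c) := fun _ => rfl
      simp only [this, Finset.mul_sum]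
      rw [Finset.sum_comm]
      refine Finset.sum_eq_zero fun c _ => ?_
      by_cases hc : p ∣ orderOf c
      · exact Finset.sum_eq_zero fun η' _ => by simp [Char.regFun, hc]
      · have hc0 := hno c hc
        rw [blockPart_apply] at hc0
        simp only [Char.regFun, hc, if_false]
        calc _ = (Nat.card (Subgroup.centralizer ({u} : Set G)) : ℂ)⁻¹ * conj (η.1 c) *
              ∑ η' ∈ Finset.univ.filter (· ∈ blkSet M u f),
                classInner (secFun u χ.1) η'.1 * η'.1 c := by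
              rw [Finset.mul_sum]
              exact Finset.sum_congr rfl fun _ _ => by ring
          _ = 0 := by rw [hc0, mul_zero]
    rw [hz, map_zero, mul_zero]
  rw [hm, mul_zero, zero_div]
  exact memLocalIdeal_zero

end Cfsg.Agent.Star
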