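import Cfsg.Agent.Lib.Star.Lift
import Cfsg.Agent.Lib.BrauerPairs.LocalFusion

/-!
# The Broué–Puig `*`-construction

For a linear character `lam` of the group `P` of a maximal pair `(P, E)` of a block, invariant under
the maps of the block (`IsStable`), `lamT` is its value at a pair `(⟨u⟩, f)`, and
`star lam χ (u s) = Σ_f lamT (u, f) χ^{(u,f)}(u s)`.
-/

set_option autoImplicit false
set_option linter.unusedSectionVars false
set_option linter.style.haveILetI false

namespace Cfsg.Agent.Star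

open Cfsg MonoidAlgebra
open Agent.Blocks
open Cfsg.Agent.BrauerPairs (fixedBy conjEl br mem_fixedBy_iff_coeff fixedBy_anti coeff_conjEl
  coeff_br_of_notMem br_mul br_br_self br_eq_self IsBlockIdem HasBlocks IsPair IsPairOf IsMax PLE
  conjPair BHom blk blkG centerIn_commute br_mem_fixedBy suppIn)
open scoped Classical Cfsg.Agent.Blocks

universe u

variable {M : Ideal AlgInt} [M.IsMaximal] {G : Type u} [Group G] [Finite G] {p : ℕ} [hp : Fact p.Prime]

/-! ### The `p`-part -/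

/-- The `p`-part of `g`. -/
noncomputable def ppart (p : ℕ) [Fact p.Prime] (g : G) : G := (exists_isPPart (p := p) g).choose

theorem isPPart_ppart (g : G) : IsPPart p g (ppart p g) := (exists_isPPart (p := p) g).choose_spec

theorem ppart_eq {g u : G} (hg : IsPPart p g u) : ppart p g = u := IsPPart.unique (isPPart_ppart g) hg

theorem mem_centralizer_of_isPPart {g u : G} (hg : IsPPart p g u) :
    g ∈ Subgroup.centralizer ({u} : Set G) := by
  obtain ⟨y, hy, hc, -, -⟩ := hg
  rw [Subgroup.mem_centralizer_singleton_iff, ← hy, mul_assoc, ← hc.eq]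

theorem zpowers_le_centralizer_of_isPPart {g u : G} (hg : IsPPart p g u) :
    Subgroup.zpowers g ≤ Subgroup.centralizer (Subgroup.zpowers u : Set G) := by
  rw [centralizer_zpowers_eq, Subgroup.zpowers_le]
  exact mem_centralizer_of_isPPart hg

theorem isPPart_one : IsPPart p (1 : G) 1 :=
  ⟨1, mul_one _, Commute.refl _, ⟨0, by rw [orderOf_one, pow_zero]⟩,
    by rw [orderOf_one]; exact hp.out.not_dvd_one⟩

/-! ### Blocks of a centralizer -/

/-- The block idempotents of `C(u)`. -/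
noncomputable def blocksAt (M : Ideal AlgInt) [M.IsMaximal] (u : G) :
    Finset (MonoidAlgebra (AlgInt ⧸ M) G) :=
  (Finset.univ.image fun χ : IrrCharacter (Subgroup.centralizer ({u} : Set G)) =>
    blockOf M χ.1).image (blk M _)

theorem isBlockIdem_of_mem {u : G} {f : MonoidAlgebra (AlgInt ⧸ M) G} (hf : f ∈ blocksAt M u) :
    IsBlockIdem (Subgroup.centralizer ({u} : Set G)) f := by
  obtain ⟨b, hb, rfl⟩ := Finset.mem_image.1 hf
  obtain ⟨χ, -, rfl⟩ := Finset.mem_image.1 hb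
  exact BrauerPairs.isBlockIdem_blk _ (isPBlock_blockOf χ)

theorem sum_blocksAt (u : G) : ∑ f ∈ blocksAt M u, f = 1 := by
  rw [blocksAt, Finset.sum_image]
  · show ∑ b ∈ _, BrauerPairs.incl (Subgroup.centralizer ({u} : Set G)) (AlgInt ⧸ M) (blkG M b) = 1
    rw [← map_sum, BrauerPairs.sum_blkG, map_one]
  · intro A hA B hB h
    simp only [Finset.coe_image, Set.mem_image] at hA hB
    obtain ⟨χ, -, rfl⟩ := hA
    obtain ⟨ψ, -, rfl⟩ := hB
    exact BrauerPairs.blk_injective _ (isPBlock_blockOf χ) (isPBlock_blockOf ψ) h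

theorem mem_blocksAt {u : G} {f : MonoidAlgebra (AlgInt ⧸ M) G}
    (hf : IsBlockIdem (Subgroup.centralizer ({u} : Set G)) f) : f ∈ blocksAt M u :=
  BrauerPairs.mem_blocks (fun _ => isBlockIdem_of_mem) (sum_blocksAt u) hf

variable [CharP (AlgInt ⧸ M) p]

theorem isPair_of_mem {u : G} (hu : ∃ k, orderOf u = p ^ k) {f : MonoidAlgebra (AlgInt ⧸ M) G}
    (hf : f ∈ blocksAt M u) : IsPair p (Subgroup.zpowers u, f) :=
  ⟨isPGroup_zpowers hu, by
    show IsBlockIdem (Subgroup.centralizer (Subgroup.zpowers u : Set G)) f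
    rw [centralizer_zpowers_eq]
    exact isBlockIdem_of_mem hf⟩

/-! ### Stable linear characters -/

/-- A linear character of `P` invariant under the maps of the pair `(P, E)`. -/
structure IsStable (p : ℕ) [Fact p.Prime] [CharP (AlgInt ⧸ M) p] (P : Subgroup G)
    (E : MonoidAlgebra (AlgInt ⧸ M) G) (lam : G → ℂ) : Prop where
  map_one : lam 1 = 1
  map_mul : ∀ x ∈ P, ∀ y ∈ P, lam (x * y) = lam x * lam y
  fusion : ∀ (g : G) (Q : Subgroup G), BHom p P E g Q → ∀ x ∈ Q, lam (g * x * g⁻¹) = lam x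

variable {P : Subgroup G} {E : MonoidAlgebra (AlgInt ⧸ M) G} {lam : G → ℂ}

/-- `lam` takes the same values at elements related by the maps of the pair `(P, E)`. -/
def IsFusionStable (p : ℕ) [Fact p.Prime] [CharP (AlgInt ⧸ M) p] (P : Subgroup G)
    (E : MonoidAlgebra (AlgInt ⧸ M) G) (lam : G → ℂ) : Prop :=
  ∀ (g : G) (Q : Subgroup G), BHom p P E g Q → ∀ x ∈ Q, lam (g * x * g⁻¹) = lam x

theorem IsStable.pow_orderOf (hl : IsStable p P E lam) {x : G} (hx : x ∈ P) :
    lam x ^ orderOf x = 1 := by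
  have key : ∀ n : ℕ, lam (x ^ n) = lam x ^ n := by
    intro n
    induction n with
    | zero => rw [pow_zero, pow_zero, hl.map_one]
    | succ n ih => rw [pow_succ, pow_succ, hl.map_mul _ (pow_mem hx n) _ hx, ih]
  rw [← key, pow_orderOf_eq_one, hl.map_one]

theorem IsStable.norm_eq_one (hl : IsStable p P E lam) {x : G} (hx : x ∈ P) : ‖lam x‖ = 1 :=
  Complex.norm_eq_one_of_pow_eq_one (hl.pow_orderOf hx) (orderOf_pos x).ne'

/-- The value of `lam` at the pair `(⟨u⟩, f)`. -/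
noncomputable def lamT (p : ℕ) [Fact p.Prime] [CharP (AlgInt ⧸ M) p] (P : Subgroup G)
    (E : MonoidAlgebra (AlgInt ⧸ M) G) (lam : G → ℂ) (u : G) (f : MonoidAlgebra (AlgInt ⧸ M) G) : ℂ :=
  if h : ∃ g : G, PLE p (conjPair g (Subgroup.zpowers u, f)) (P, E) then
    lam (h.choose * u * h.choose⁻¹) else 0

theorem conjPair_zpowers (g u : G) (f : MonoidAlgebra (AlgInt ⧸ M) G) :
    conjPair g (Subgroup.zpowers u, f) = (Subgroup.zpowers (g * u * g⁻¹), conjEl g f) := by
  refine Prod.ext ?_ rfl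
  show (Subgroup.zpowers u).map _ = _
  rw [MonoidHom.map_zpowers]
  rfl

theorem lamT_eq' (hl : IsFusionStable p P E lam) {u g : G} {f : MonoidAlgebra (AlgInt ⧸ M) G}
    (hg : PLE p (conjPair g (Subgroup.zpowers u, f)) (P, E)) :
    lamT p P E lam u f = lam (g * u * g⁻¹) := by
  have h : ∃ g : G, PLE p (conjPair g (Subgroup.zpowers u, f)) (P, E) := ⟨g, hg⟩
  rw [lamT, dif_pos h]
  obtain ⟨c, hc, hcs⟩ : ∃ c, c = h.choose ∧ PLE p (conjPair c (Subgroup.zpowers u, f)) (P, E) :=
    ⟨_, rfl, h.choose_spec⟩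
  rw [← hc]
  have hb : BHom p P E (c * g⁻¹) ((Subgroup.zpowers u).map (MulAut.conj g).toMonoidHom) :=
    ⟨hg.le, conjEl g f, hg, by
      show PLE p (conjPair (c * g⁻¹) (conjPair g (Subgroup.zpowers u, f))) (P, E)
      rwa [← BrauerPairs.conjPair_mul, inv_mul_cancel_right]⟩
  have h1 := hl _ _ hb (g * u * g⁻¹) ⟨u, Subgroup.mem_zpowers u, rfl⟩
  rw [← h1]
  congr 1
  group

theorem lamT_eq (hl : IsStable p P E lam) {u g : G} {f : MonoidAlgebra (AlgInt ⧸ M) G}
    (hg : PLE p (conjPair g (Subgroup.zpowers u, f)) (P, E)) :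
    lamT p P E lam u f = lam (g * u * g⁻¹) :=
  lamT_eq' hl.fusion hg

theorem lamT_conj' (hl : IsFusionStable p P E lam) (t u : G) (f : MonoidAlgebra (AlgInt ⧸ M) G) :
    lamT p P E lam (t * u * t⁻¹) (conjEl t f) = lamT p P E lam u f := by
  by_cases h : ∃ g : G, PLE p (conjPair g (Subgroup.zpowers u, f)) (P, E)
  · obtain ⟨g, hg⟩ := h
    rw [lamT_eq' hl hg, lamT_eq' (g := g * t⁻¹) hl (by
      rw [← conjPair_zpowers, ← BrauerPairs.conjPair_mul, inv_mul_cancel_right]; exact hg)]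
    congr 1
    group
  · rw [lamT, lamT, dif_neg h, dif_neg]
    rintro ⟨g, hg⟩
    rw [← conjPair_zpowers, ← BrauerPairs.conjPair_mul] at hg
    exact h ⟨_, hg⟩

theorem lamT_conj (hl : IsStable p P E lam) (t u : G) (f : MonoidAlgebra (AlgInt ⧸ M) G) :
    lamT p P E lam (t * u * t⁻¹) (conjEl t f) = lamT p P E lam u f :=
  lamT_conj' hl.fusion t u f

theorem lamT_eq_zero {B : Set (IrrCharacter G)} (hB : IsPBlock M B)
    (hmax : IsMax p (blkG M B) (P, E)) {u : G} {f : MonoidAlgebra (AlgInt ⧸ M) G}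
    (hf : ¬ IsPairOf p (blkG M B) (Subgroup.zpowers u, f)) : lamT p P E lam u f = 0 := by
  rw [lamT, dif_neg]
  rintro ⟨g, hg⟩
  have hBi := BrauerPairs.isBlockIdem_blkG hB
  have h1 := ((BrauerPairs.ple_isPairOf_iff hBi hg).1 hmax.1).conj hBi g⁻¹
  rw [BrauerPairs.conjPair_inv_conjPair] at h1
  exact hf h1

theorem exists_conj_ple_of_pair {B : Set (IrrCharacter G)} (hB : IsPBlock M B)
    (hmax : IsMax p (blkG M B) (P, E)) {u : G} {f : MonoidAlgebra (AlgInt ⧸ M) G}
    (hf : IsPairOf p (blkG M B) (Subgroup.zpowers u, f)) :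
    ∃ g, PLE p (conjPair g (Subgroup.zpowers u, f)) (P, E) ∧ g * u * g⁻¹ ∈ P := by
  obtain ⟨g, hg⟩ := BrauerPairs.exists_conj_ple (fun H => BrauerPairs.hasBlocks M H)
    (BrauerPairs.isBlockIdem_blkG hB) hmax hf
  exact ⟨g, hg, hg.le ⟨u, Subgroup.mem_zpowers u, rfl⟩⟩

/-! ### `Φ` and `star` -/

/-- `Σ_f lamT (u, f) κ(br_u Z · f)`. -/
noncomputable def Phi (p : ℕ) [Fact p.Prime] [CharP (AlgInt ⧸ M) p] (P : Subgroup G)
    (E : MonoidAlgebra (AlgInt ⧸ M) G) (lam : G → ℂ) (χ : G → ℂ) (Z : MonoidAlgebra (AlgInt ⧸ M) G)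
    (g : G) : ℂ :=
  ∑ f ∈ blocksAt M (ppart p g), lamT p P E lam (ppart p g) f *
    kappa M χ g (ppart p g) (br (Subgroup.zpowers (ppart p g)) Z * f)

/-- The Broué–Puig product of `lam` and `χ`. -/
noncomputable def star (p : ℕ) [Fact p.Prime] [CharP (AlgInt ⧸ M) p] (B : Set (IrrCharacter G))
    (P : Subgroup G) (E : MonoidAlgebra (AlgInt ⧸ M) G) (lam : G → ℂ) (χ : G → ℂ) (g : G) : ℂ :=
  Phi p P E lam χ (blkG M B) g

theorem Phi_eq {g u : G} (hg : IsPPart p g u) (χ : G → ℂ) (Z : MonoidAlgebra (AlgInt ⧸ M) G) :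
    Phi p P E lam χ Z g = ∑ f ∈ blocksAt M u, lamT p P E lam u f *
      kappa M χ g u (br (Subgroup.zpowers u) Z * f) := by
  rw [Phi, ppart_eq hg]

/-- The pieces `br_u Z · f`. -/
theorem part_facts {g u : G} (hg : IsPPart p g u) {Z : MonoidAlgebra (AlgInt ⧸ M) G}
    (hZ : Z ∈ fixedBy (AlgInt ⧸ M) (Subgroup.zpowers g)) (hZZ : Z * Z = Z)
    {f : MonoidAlgebra (AlgInt ⧸ M) G} (hf : f ∈ blocksAt M u) :
    let w := br (Subgroup.zpowers u) Z * f
    w * w = w ∧ w ∈ fixedBy (AlgInt ⧸ M) (Subgroup.zpowers g) ∧ br (Subgroup.zpowers u) w = w ∧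
      f * br (Subgroup.zpowers u) Z = w := by
  intro w
  have hu := IsPPart.isPElement hg
  have hfb : IsBlockIdem (Subgroup.centralizer (Subgroup.zpowers u : Set G)) f := (isPair_of_mem hu hf).2
  have hZu := fixedBy_anti (zpowers_le_of_isPPart hg) hZ
  have hs : br (Subgroup.zpowers u) Z ∈
      suppIn (AlgInt ⧸ M) (Subgroup.centralizer (Subgroup.zpowers u : Set G)) :=
    fun x hx => coeff_br_of_notMem _ hx
  have haa : br (Subgroup.zpowers u) Z * br (Subgroup.zpowers u) Z = br (Subgroup.zpowers u) Z := by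
    rw [← br_mul (p := p) (isPGroup_zpowers hu) hZu hZu, hZZ]
  have hc := centerIn_commute hs hfb.mem.2
  refine ⟨?_, mul_mem (br_mem_fixedBy hZ le_rfl ((zpowers_le_centralizer_of_isPPart hg).trans
    (Subgroup.centralizer_le_normalizer _))) (fixedBy_anti (zpowers_le_centralizer_of_isPPart hg) hfb.mem.2),
    br_eq_self (fun x hx => mul_mem hs hfb.mem.1 x hx), hc.symm⟩
  calc w * w = br (Subgroup.zpowers u) Z * (br (Subgroup.zpowers u) Z * f) * f := by
        show br _ Z * f * (br _ Z * f) = _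
        conv_rhs => rw [hc]
        simp only [mul_assoc]
    _ = w := by rw [← mul_assoc, haa, mul_assoc, hfb.idem]

theorem kappa_sum (hpM : (p : AlgInt) ∈ M) {g u : G} (hg : IsPPart p g u) (χ : IrrCharacter G)
    {ι : Type*} (s : Finset ι) (w : ι → MonoidAlgebra (AlgInt ⧸ M) G)
    (h1 : ∀ j ∈ s, w j * w j = w j) (h2 : ∀ j ∈ s, w j ∈ fixedBy (AlgInt ⧸ M) (Subgroup.zpowers g))
    (h3 : ∀ j ∈ s, br (Subgroup.zpowers u) (w j) = w j)
    (h4 : ∀ j ∈ s, ∀ l ∈ s, j ≠ l → w j * w l = 0) :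
    kappa M χ.1 g u (∑ j ∈ s, w j) = ∑ j ∈ s, kappa M χ.1 g u (w j) := by
  induction s using Finset.induction with
  | empty => simpa using kappa_zero hpM hg χ
  | insert j s hj ih =>
    simp only [Finset.mem_insert, forall_eq_or_imp] at h1 h2 h3
    have h4' : ∀ l ∈ s, ∀ m ∈ s, l ≠ m → w l * w m = 0 := fun l hl m hm =>
      h4 l (Finset.mem_insert_of_mem hl) m (Finset.mem_insert_of_mem hm)
    rw [Finset.sum_insert hj, Finset.sum_insert hj, kappa_add hpM hg χ h1.1 ?_ ?_ ?_ h2.1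
      (sum_mem h2.2) h3.1 (by rw [map_sum]; exact Finset.sum_congr rfl h3.2), ih h1.2 h2.2 h3.2 h4']
    · rw [Finset.sum_mul_sum]
      refine Finset.sum_congr rfl fun l hl => ?_
      rw [Finset.sum_eq_single_of_mem l hl fun m hm hne => h4' l hl m hm hne.symm, h1.2 l hl]
    · rw [Finset.mul_sum]
      exact Finset.sum_eq_zero fun l hl => h4 j (Finset.mem_insert_self _ _) l
        (Finset.mem_insert_of_mem hl) fun e => hj (e ▸ hl)
    · rw [Finset.sum_mul]
      exact Finset.sum_eq_zero fun l hl => h4 l (Finset.mem_insert_of_mem hl) j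
        (Finset.mem_insert_self _ _) fun e => hj (e ▸ hl)

theorem Phi_sum (hpM : (p : AlgInt) ∈ M) {g : G} (χ : IrrCharacter G) {ι : Type*} (s : Finset ι)
    (Z : ι → MonoidAlgebra (AlgInt ⧸ M) G) (h1 : ∀ j ∈ s, Z j * Z j = Z j)
    (h2 : ∀ j ∈ s, Z j ∈ fixedBy (AlgInt ⧸ M) (Subgroup.zpowers g))
    (h4 : ∀ j ∈ s, ∀ l ∈ s, j ≠ l → Z j * Z l = 0) :
    Phi p P E lam χ.1 (∑ j ∈ s, Z j) g = ∑ j ∈ s, Phi p P E lam χ.1 (Z j) g := by
  have hg := isPPart_ppart (p := p) g
  simp only [Phi_eq hg]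
  rw [Finset.sum_comm]
  refine Finset.sum_congr rfl fun f hf => ?_
  rw [← Finset.mul_sum, map_sum, Finset.sum_mul, kappa_sum hpM hg χ s]
  · exact fun j hj => (part_facts hg (h2 j hj) (h1 j hj) hf).1
  · exact fun j hj => (part_facts hg (h2 j hj) (h1 j hj) hf).2.1
  · exact fun j hj => (part_facts hg (h2 j hj) (h1 j hj) hf).2.2.1
  · intro j hj l hl hne
    have hZu := fun {j} (hj : j ∈ s) => fixedBy_anti (zpowers_le_of_isPPart hg) (h2 j hj)
    calc br (Subgroup.zpowers (ppart p g)) (Z j) * f * (br (Subgroup.zpowers (ppart p g)) (Z l) * f)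
        = br (Subgroup.zpowers (ppart p g)) (Z j) * br (Subgroup.zpowers (ppart p g)) (Z l) * f * f := by
          rw [mul_assoc, ← mul_assoc f, (part_facts hg (h2 l hl) (h1 l hl) hf).2.2.2]
          simp only [mul_assoc]
      _ = 0 := by
          rw [← br_mul (p := p) (isPGroup_zpowers (IsPPart.isPElement hg)) (hZu hj) (hZu hl),
            h4 j hj l hl hne, map_zero, zero_mul, zero_mul]

theorem Phi_zero (hpM : (p : AlgInt) ∈ M) (χ : IrrCharacter G) (g : G) :
    Phi p P E lam χ.1 (0 : MonoidAlgebra (AlgInt ⧸ M) G) g = 0 := by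
  have hg := isPPart_ppart (p := p) g
  rw [Phi_eq hg]
  exact Finset.sum_eq_zero fun f _ => by rw [map_zero, zero_mul, kappa_zero hpM hg χ, mul_zero]

theorem Phi_equiv (hpM : (p : AlgInt) ∈ M) {g : G} (χ : IrrCharacter G)
    {Z Z' a b : MonoidAlgebra (AlgInt ⧸ M) G} (hZ : Z * Z = Z) (hZ' : Z' * Z' = Z')
    (ha : a ∈ fixedBy (AlgInt ⧸ M) (Subgroup.zpowers g))
    (hb : b ∈ fixedBy (AlgInt ⧸ M) (Subgroup.zpowers g)) (hab : a * b = Z) (hba : b * a = Z') :
    Phi p P E lam χ.1 Z g = Phi p P E lam χ.1 Z' g := by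
  have hg := isPPart_ppart (p := p) g
  simp only [Phi_eq hg]
  refine Finset.sum_congr rfl fun f hf => ?_
  congr 1
  set U := Subgroup.zpowers (ppart p g) with hU
  have hu := IsPPart.isPElement hg
  have hUg := zpowers_le_of_isPPart hg
  have hfb : IsBlockIdem (Subgroup.centralizer (U : Set G)) f := (isPair_of_mem hu hf).2
  have hs : ∀ z, br U z ∈ suppIn (AlgInt ⧸ M) (Subgroup.centralizer (U : Set G)) :=
    fun z x hx => coeff_br_of_notMem _ hx
  have hCn := (zpowers_le_centralizer_of_isPPart hg).trans (Subgroup.centralizer_le_normalizer _)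
  have hff := fixedBy_anti (zpowers_le_centralizer_of_isPPart hg) hfb.mem.2
  refine kappa_equiv hpM hg χ (a := br U a * f) (b := br U b * f)
    (part_facts hg (hab ▸ mul_mem ha hb) hZ hf).1 (part_facts hg (hba ▸ mul_mem hb ha) hZ' hf).1
    (mul_mem (br_mem_fixedBy ha le_rfl hCn) hff) (mul_mem (br_mem_fixedBy hb le_rfl hCn) hff)
    (br_eq_self fun x hx => mul_mem (hs a) hfb.mem.1 x hx)
    (br_eq_self fun x hx => mul_mem (hs b) hfb.mem.1 x hx) ?_ ?_
  · rw [← hab, br_mul (p := p) (isPGroup_zpowers hu) (fixedBy_anti hUg ha) (fixedBy_anti hUg hb),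
      mul_assoc, ← mul_assoc f, ← centerIn_commute (hs b) hfb.mem.2]
    simp only [mul_assoc, hfb.idem]
    rw [← mul_assoc]
  · rw [← hba, br_mul (p := p) (isPGroup_zpowers hu) (fixedBy_anti hUg hb) (fixedBy_anti hUg ha),
      mul_assoc, ← mul_assoc f, ← centerIn_commute (hs a) hfb.mem.2]
    simp only [mul_assoc, hfb.idem]
    rw [← mul_assoc]

/-! ### Conjugation -/

theorem chiL_conjEl {χ : G → ℂ} (hχ : IsClassFunction G χ) (t : G) (z : MonoidAlgebra ℂ G) :
    chiL χ (conjEl t z) = chiL χ z := by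
  haveI := Fintype.ofFinite G
  rw [chiL_eq_sum, chiL_eq_sum, ← Equiv.sum_comp (MulAut.conj t).toEquiv]
  refine Finset.sum_congr rfl fun x _ => ?_
  show (conjEl t z).coeff (t * x * t⁻¹) * χ (t * x * t⁻¹) = _
  rw [coeff_conjEl, hχ x t]
  congr 2
  group

theorem conjEl_single (t g : G) :
    conjEl t (MonoidAlgebra.single g (1 : ℂ)) = MonoidAlgebra.single (t * g * t⁻¹) 1 :=
  alg_ext fun x => by
    rw [coeff_conjEl]
    simp only [MonoidAlgebra.coeff_single, Finsupp.single_apply]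
    refine if_congr ⟨fun e => ?_, fun e => ?_⟩ rfl rfl
    · rw [e]; group
    · rw [← e]; group

theorem kappa_conj (hpM : (p : AlgInt) ∈ M) {g u : G} (hg : IsPPart p g u) (χ : IrrCharacter G) (t : G)
    (w : MonoidAlgebra (AlgInt ⧸ M) G) :
    kappa M χ.1 (t * g * t⁻¹) (t * u * t⁻¹) (conjEl t w) = kappa M χ.1 g u w := by
  have hmap : ∀ x : G, (Subgroup.zpowers x).map (MulAut.conj t).toMonoidHom =
      Subgroup.zpowers (t * x * t⁻¹) := fun x => by rw [MonoidHom.map_zpowers]; rfl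
  have key : ∀ (s g u : G) (X : MonoidAlgebra ℂ G) (w : MonoidAlgebra (AlgInt ⧸ M) G),
      IsLiftAt M g u X w → IsLiftAt M (s * g * s⁻¹) (s * u * s⁻¹) (conjEl s X) (conjEl s w) := by
    intro s g u X w ⟨h1, h2, h3, h4⟩
    refine ⟨scoeff_conjEl h1 s, ?_, by rw [← map_mul, h3], ?_⟩
    · have := BrauerPairs.conjEl_mem_fixedBy s h2
      rwa [MonoidHom.map_zpowers] at this
    · rw [redA_conjEl, ← h4, BrauerPairs.conjEl_br, MonoidHom.map_zpowers]
      rfl
  by_cases h : ∃ X, IsLiftAt M g u X w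
  · obtain ⟨X, hX⟩ := h
    rw [kappa_eq hpM (IsPPart.conj hg t) χ (key t g u X w hX), kappa_eq hpM hg χ hX, ← conjEl_single t g,
      ← map_mul, chiL_conjEl (irr_classFun χ)]
  · rw [kappa, kappa, dif_neg h, dif_neg]
    rintro ⟨X, hX⟩
    have := key t⁻¹ _ _ X _ hX
    rw [BrauerPairs.conjEl_inv_conjEl] at this
    exact h ⟨_, by simpa [mul_assoc] using this⟩

theorem Phi_conj (hpM : (p : AlgInt) ∈ M) (hl : IsFusionStable p P E lam) (χ : IrrCharacter G) (t g : G)
    (Z : MonoidAlgebra (AlgInt ⧸ M) G) :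
    Phi p P E lam χ.1 (conjEl t Z) (t * g * t⁻¹) = Phi p P E lam χ.1 Z g := by
  have hg := isPPart_ppart (p := p) g
  set u := ppart p g with hu
  rw [Phi_eq (IsPPart.conj hg t), Phi_eq hg]
  have hmap : ∀ (s u : G), (Subgroup.centralizer ({u} : Set G)).map (MulAut.conj s).toMonoidHom =
      Subgroup.centralizer ({s * u * s⁻¹} : Set G) := fun s u => by
    rw [← centralizer_zpowers_eq, BrauerPairs.map_conj_centralizer, MonoidHom.map_zpowers,
      centralizer_zpowers_eq]
    rfl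
  symm
  refine Finset.sum_bij (fun f _ => conjEl t f) (fun f hf => ?_)
    (fun f _ f' _ e => (conjEl t).injective e) (fun f hf => ?_) (fun f _ => ?_)
  · refine mem_blocksAt ?_
    have := (isBlockIdem_of_mem hf).conj t
    rwa [hmap] at this
  · refine ⟨conjEl t⁻¹ f, mem_blocksAt ?_, ?_⟩
    · have := (isBlockIdem_of_mem hf).conj t⁻¹
      rw [hmap] at this
      simpa [mul_assoc] using this
    · rw [← BrauerPairs.conjEl_mul, mul_inv_cancel, BrauerPairs.conjEl_one]
  · rw [lamT_conj' hl, show br (Subgroup.zpowers (t * u * t⁻¹)) (conjEl t Z) * conjEl t f =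
      conjEl t (br (Subgroup.zpowers u) Z * f) by
        rw [map_mul, BrauerPairs.conjEl_br, MonoidHom.map_zpowers]; rfl, kappa_conj hpM hg]

/-! ### The parts of a character of the block -/

theorem kappa_eq_zero_of_not_pair (hpM : (p : AlgInt) ∈ M) {B : Set (IrrCharacter G)} (hB : IsPBlock M B)
    {g u : G} (hg : IsPPart p g u) {χ : IrrCharacter G} (hχ : χ ∈ B)
    {f : MonoidAlgebra (AlgInt ⧸ M) G} (hf : f ∈ blocksAt M u)
    (hnp : ¬ IsPairOf p (blkG M B) (Subgroup.zpowers u, f)) : kappa M χ.1 g u f = 0 := by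
  have hu := IsPPart.isPElement hg
  have hpair := isPair_of_mem hu hf
  have hBi := BrauerPairs.isBlockIdem_blkG hB
  have hfb : IsBlockIdem (Subgroup.centralizer (Subgroup.zpowers u : Set G)) f := hpair.2
  have h0 : br (Subgroup.zpowers u) (blkG M B) * f = 0 := by
    refine (hfb.mul_eq_zero_or_self (BrauerPairs.br_top_mem hBi.mem) ?_).resolve_right fun h => hnp ⟨hpair, h⟩
    rw [← br_mul (p := p) hpair.1 (BrauerPairs.mem_fixedBy_of_top hBi.mem _)
      (BrauerPairs.mem_fixedBy_of_top hBi.mem _), hBi.idem]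
  have hfC : f ∈ fixedBy (AlgInt ⧸ M) (Subgroup.zpowers g) :=
    fixedBy_anti (zpowers_le_centralizer_of_isPPart hg) hfb.mem.2
  obtain ⟨X, hX⟩ := exists_liftAt (M := M) (g := g) (u := u) hfb.idem hfC
    (br_eq_self fun x hx => hfb.mem.1 x hx)
  rw [kappa_eq hpM hg χ hX]
  obtain ⟨hXS, hXf, hXX, hXe⟩ := hX
  have heBc := isCentralElt_blockIdem B
  have hc : blockIdem B * X = X * blockIdem B := (IsCentralElt.commute heBc X).eq
  have hBf : blockIdem B ∈ fixedBy ℂ (Subgroup.zpowers g) :=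
    mem_fixedBy_iff_coeff.2 fun h _ x => heBc x h
  have hz := chiL_idem_eq_zero hpM hg χ (Z := blockIdem B * X)
    (SCoeff.mul (scoeff_blockIdem hB) hXS) (mul_mem hBf hXf)
    (by
      calc blockIdem B * X * (blockIdem B * X) = blockIdem B * (X * blockIdem B) * X := by
            simp only [mul_assoc]
        _ = blockIdem B * blockIdem B * (X * X) := by rw [← hc]; simp only [mul_assoc]
        _ = blockIdem B * X := by rw [blockIdem_mul_self, hXX])
    (by
      rw [redA_mul (scoeff_blockIdem hB) hXS, br_mul (p := p) hpair.1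
        (redA_mem_fixedBy (fixedBy_anti (zpowers_le_of_isPPart hg) hBf))
        (redA_mem_fixedBy (fixedBy_anti (zpowers_le_of_isPPart hg) hXf)), hXe]
      exact h0)
  rwa [mul_assoc, chiL_mul_of_central χ heBc, omega_blockIdem, if_pos hχ, one_mul] at hz

/-- The lift of a block idempotent of `C(u)`. -/
theorem kappa_blk (hpM : (p : AlgInt) ∈ M) {g u : G} (hg : IsPPart p g u) (χ : IrrCharacter G)
    {b : Set (IrrCharacter (Subgroup.centralizer ({u} : Set G)))} (hb : IsPBlock M b) :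
    kappa M χ.1 g u (blk M _ b) =
      chiL χ.1 (inclA _ (blockIdem b) * MonoidAlgebra.single g 1) := by
  refine kappa_eq hpM hg χ ⟨scoeff_inclA (scoeff_blockIdem hb), mem_fixedBy_iff_coeff.2 fun h hh x => ?_,
    by rw [← map_mul, blockIdem_mul_self], ?_⟩
  · have hgC : h ∈ Subgroup.centralizer ({u} : Set G) :=
      Subgroup.zpowers_le.2 (mem_centralizer_of_isPPart hg) hh
    by_cases hx : x ∈ Subgroup.centralizer ({u} : Set G)
    · have := isCentralElt_blockIdem b ⟨x, hx⟩ ⟨h, hgC⟩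
      rw [← coeff_inclA, ← coeff_inclA] at this
      simpa using this
    · rw [coeff_inclA_of_notMem _ hx, coeff_inclA_of_notMem]
      exact fun h' => hx (by simpa [mul_assoc] using mul_mem (mul_mem (inv_mem hgC) h') hgC)
  · have e : redA M (inclA _ (blockIdem b)) = blk M (Subgroup.centralizer ({u} : Set G)) b := by
      refine alg_ext fun x => ?_
      rw [coeff_redA, BrauerPairs.coeff_blk, subgroupBlockCoeff]
      split_ifs with hx
      · have := coeff_inclA (blockIdem b) (⟨x, hx⟩ : Subgroup.centralizer ({u} : Set G))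
        rw [coeff_blockIdem] at this
        exact congrArg (red M) this
      · rw [coeff_inclA_of_notMem _ hx]
    rw [e]
    refine br_eq_self fun x hx => ?_
    rw [centralizer_zpowers_eq] at hx
    exact (BrauerPairs.isBlockIdem_blk _ hb).mem.1 x hx

theorem star_eq (hpM : (p : AlgInt) ∈ M) {B : Set (IrrCharacter G)} (hB : IsPBlock M B)
    (hmax : IsMax p (blkG M B) (P, E)) {g u : G} (hg : IsPPart p g u) (χ : IrrCharacter G) :
    star p B P E lam χ.1 g = ∑ f ∈ blocksAt M u, lamT p P E lam u f * kappa M χ.1 g u f := by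
  rw [star, Phi_eq hg]
  refine Finset.sum_congr rfl fun f hf => ?_
  by_cases hp' : IsPairOf p (blkG M B) (Subgroup.zpowers u, f)
  · rw [hp'.2]
  · rw [lamT_eq_zero hB hmax hp', zero_mul, zero_mul]

theorem star_classFun (hpM : (p : AlgInt) ∈ M) (hl : IsFusionStable p P E lam) {B : Set (IrrCharacter G)}
    (hB : IsPBlock M B) (χ : IrrCharacter G) :
    IsClassFunction G (star (M := M) p B P E lam χ.1) := by
  intro g t
  have h := Phi_conj (M := M) hpM hl χ t g (blkG M B)
  rw [BrauerPairs.conjEl_eq_self_of_top (BrauerPairs.isBlockIdem_blkG hB).mem] at h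
  exact h

end Cfsg.Agent.Star
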