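import Cfsg.Agent.Lib.Blocks.GroupAlgebra
import Cfsg.Agent.Lib.BrauerPairs.Map
import Mathlib.LinearAlgebra.Matrix.ToLinearEquiv
import Mathlib.RingTheory.IntegralClosure.IsIntegral.Basic
import Mathlib.FieldTheory.IsAlgClosed.Basic
import Mathlib.Analysis.Complex.Polynomial.Basic

/-!
# Idempotents over the local integers at `M`

The local integers at `M` are integrally closed, so every element of `O[G]` has its eigenvalues in
`O`; hence a Fitting decomposition `exists_fitting` with all parts polynomial in the element, lifting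
of idempotents, and `eq_zero_of_idem_redA`.
-/

set_option autoImplicit false
set_option linter.unusedSectionVars false
set_option linter.style.haveILetI false

namespace Cfsg.Agent.Star

open Cfsg MonoidAlgebra Polynomial
open Agent.Blocks
open scoped Classical Cfsg.Agent.Blocks

universe u

variable {M : Ideal AlgInt} [M.IsMaximal]

/-- Polynomials over the local integers. -/
noncomputable def intPoly (M : Ideal AlgInt) [M.IsMaximal] : Subring ℂ[X] :=
  (Polynomial.mapRingHom (localInt M).subtype).range

theorem X_mem : (X : ℂ[X]) ∈ intPoly M := ⟨X, by simp⟩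

theorem C_mem {c : ℂ} (hc : MemLocalRing M c) : (C c : ℂ[X]) ∈ intPoly M :=
  ⟨C ⟨c, hc⟩, by simp⟩

theorem prod_X_sub_C_mem {l : List ℂ} (hl : ∀ β ∈ l, MemLocalRing M β) :
    (l.map fun β => X - C β).prod ∈ intPoly M :=
  list_prod_mem fun q hq => by
    obtain ⟨β, hβ, rfl⟩ := List.mem_map.1 hq
    exact sub_mem X_mem (C_mem (hl β hβ))

/-- Division of a product of linear factors by one more, inside the local polynomials. -/
theorem exists_quot {l : List ℂ} (hl : ∀ β ∈ l, MemLocalRing M β) {α : ℂ} (hα : MemLocalRing M α) :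
    ∃ w ∈ intPoly M,
      (l.map fun β => X - C β).prod = C (l.map fun β => α - β).prod + (X - C α) * w := by
  induction l with
  | nil => exact ⟨0, zero_mem _, by simp⟩
  | cons β l ih =>
    obtain ⟨w, hw, hl'⟩ := ih fun x hx => hl x (List.mem_cons_of_mem _ hx)
    have hc : MemLocalRing M (l.map fun β => α - β).prod :=
      (localInt M).list_prod_mem fun x hx => by
        obtain ⟨y, hy, rfl⟩ := List.mem_map.1 hx
        exact MemLocalRing.sub hα (hl y (List.mem_cons_of_mem _ hy))
    refine ⟨C (l.map fun β => α - β).prod + (X - C β) * w,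
      add_mem (C_mem hc) (mul_mem (sub_mem X_mem (C_mem (hl β List.mem_cons_self))) hw), ?_⟩
    simp only [List.map_cons, List.prod_cons, hl', map_mul, map_sub]
    ring

/-- The idempotent polynomial separating roots in the ideal from the others. -/
theorem exists_sep {l0 l1 : List ℂ} (h0 : ∀ α ∈ l0, MemLocalIdeal M α)
    (h1 : ∀ β ∈ l1, MemLocalRing M β ∧ ¬ MemLocalIdeal M β) :
    ∃ H ∈ intPoly M, ((0 :: l0).map fun α => X - C α).prod ∣ X * H ∧
      (l1.map fun β => X - C β).prod ∣ 1 - X * H := by
  induction l0 with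
  | nil =>
    obtain ⟨w, hw, he⟩ := exists_quot (fun β hβ => (h1 β hβ).1) (memLocalRing_zero (M := M))
    set c := (l1.map fun β => (0 : ℂ) - β).prod with hc
    have hcR : MemLocalRing M c := (localInt M).list_prod_mem fun x hx => by
      obtain ⟨y, hy, rfl⟩ := List.mem_map.1 hx
      exact MemLocalRing.sub memLocalRing_zero (h1 y hy).1
    have hcI : ¬ MemLocalIdeal M c := by
      have key : ∀ l : List ℂ, (∀ x ∈ l, MemLocalRing M x ∧ ¬ MemLocalIdeal M x) →
          MemLocalRing M l.prod ∧ ¬ MemLocalIdeal M l.prod := by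
        intro l
        induction l with
        | nil => exact fun _ => ⟨by simpa using memLocalRing_one (M := M),
            by simpa using not_memLocalIdeal_one (M := M)⟩
        | cons a t ih =>
          intro hl
          obtain ⟨ht, ht'⟩ := ih fun x hx => hl x (List.mem_cons_of_mem _ hx)
          obtain ⟨ha, ha'⟩ := hl a List.mem_cons_self
          rw [List.prod_cons]
          exact ⟨MemLocalRing.mul ha ht, not_memLocalIdeal_mul ha ht ha' ht'⟩
      refine (key _ fun x hx => ?_).2
      obtain ⟨y, hy, rfl⟩ := List.mem_map.1 hx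
      refine ⟨MemLocalRing.sub memLocalRing_zero (h1 y hy).1, fun h => (h1 y hy).2 ?_⟩
      simpa using MemLocalIdeal.neg h
    refine ⟨-(C c⁻¹ * w), neg_mem (mul_mem (C_mem (memLocalRing_inv hcR hcI)) hw), by simp, ?_⟩
    refine ⟨C c⁻¹, ?_⟩
    rw [he, map_zero, sub_zero, add_mul, ← C_mul, mul_inv_cancel₀ (ne_zero_of_not_memLocalIdeal hcI),
      map_one]
    ring
  | cons α l0 ih =>
    obtain ⟨H, hH, hd0, hd1⟩ := ih fun x hx => h0 x (List.mem_cons_of_mem _ hx)
    have hα := h0 α List.mem_cons_self
    have hαR := memLocalRing_of_memLocalIdeal hα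
    obtain ⟨w, hw, he⟩ := exists_quot (fun β hβ => (h1 β hβ).1) hαR
    set c := (l1.map fun β => α - β).prod with hc
    have key : ∀ l : List ℂ, (∀ x ∈ l, MemLocalRing M x ∧ ¬ MemLocalIdeal M x) →
        MemLocalRing M l.prod ∧ ¬ MemLocalIdeal M l.prod := by
      intro l
      induction l with
      | nil => exact fun _ => ⟨by simpa using memLocalRing_one (M := M),
          by simpa using not_memLocalIdeal_one (M := M)⟩
      | cons a t ih =>
        intro hl
        obtain ⟨ht, ht'⟩ := ih fun x hx => hl x (List.mem_cons_of_mem _ hx)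
        obtain ⟨ha, ha'⟩ := hl a List.mem_cons_self
        rw [List.prod_cons]
        exact ⟨MemLocalRing.mul ha ht, not_memLocalIdeal_mul ha ht ha' ht'⟩
    obtain ⟨hcR, hcI⟩ : MemLocalRing M c ∧ ¬ MemLocalIdeal M c := by
      refine key _ fun x hx => ?_
      obtain ⟨y, hy, rfl⟩ := List.mem_map.1 hx
      refine ⟨MemLocalRing.sub hαR (h1 y hy).1, fun h => (h1 y hy).2 ?_⟩
      simpa using MemLocalIdeal.sub hα h
    set y := -(C c⁻¹ * w) with hy
    have hyF : (l1.map fun β => X - C β).prod ∣ 1 - (X - C α) * y := by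
      refine ⟨C c⁻¹, ?_⟩
      rw [he, add_mul, ← C_mul, mul_inv_cancel₀ (ne_zero_of_not_memLocalIdeal hcI), map_one, hy]
      ring
    refine ⟨H * ((X - C α) * y), mul_mem hH (mul_mem (sub_mem X_mem (C_mem hαR))
      (neg_mem (mul_mem (C_mem (memLocalRing_inv hcR hcI)) hw))), ?_, ?_⟩
    · simp only [List.map_cons, List.prod_cons] at hd0 ⊢
      obtain ⟨q, hq⟩ := hd0
      exact ⟨q * y, by linear_combination ((X - C α) * y) * hq⟩
    · rw [show 1 - X * (H * ((X - C α) * y)) = (1 - X * H) + X * H * (1 - (X - C α) * y) by ring]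
      exact dvd_add hd1 (dvd_mul_of_dvd_right hyF _)

variable {G : Type u} [Group G] [Finite G]

/-- Every element of `O[G]` satisfies a product of linear factors with roots in `O`. -/
theorem exists_roots {a : MonoidAlgebra ℂ G} (ha : SCoeff M a) :
    ∃ l : List ℂ, (∀ β ∈ l, MemLocalRing M β) ∧ aeval a (l.map fun β => X - C β).prod = 0 := by
  haveI : Module.Finite (localInt M) (MonoidAlgebra (localInt M) G) :=
    Module.Finite.of_basis (MonoidAlgebra.basis G (localInt M))
  set a' : MonoidAlgebra (localInt M) G := ofFun (fun g => ⟨a.coeff g, ha g⟩) with ha'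
  obtain ⟨f, hf, hf0⟩ := IsIntegral.of_finite (localInt M) a'
  set ψ := MonoidAlgebra.mapRangeRingHom G (localInt M).subtype with hψ
  have hψc : ∀ (z : MonoidAlgebra (localInt M) G) (g : G), (ψ z).coeff g = ((z.coeff g : localInt M) : ℂ) :=
    fun z g => rfl
  have hψa : ψ a' = a := alg_ext fun g => by rw [hψc, ha', coeff_ofFun]
  have hcomp : ψ.comp (algebraMap (localInt M) (MonoidAlgebra (localInt M) G)) =
      (algebraMap ℂ (MonoidAlgebra ℂ G)).comp (localInt M).subtype := by
    refine RingHom.ext fun r => alg_ext fun g => ?_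
    rw [RingHom.comp_apply, RingHom.comp_apply, hψc, Algebra.algebraMap_eq_smul_one,
      Algebra.algebraMap_eq_smul_one]
    simp [MonoidAlgebra.one_def, Finsupp.single_apply]
    split_ifs <;> simp
  have h0 : aeval a (f.map (localInt M).subtype) = 0 := by
    rw [aeval_def, eval₂_map, ← hcomp, ← hψa, ← hom_eval₂, hf0, map_zero]
  have hmon : (f.map (localInt M).subtype).Monic := hf.map _
  refine ⟨(f.map (localInt M).subtype).roots.toList, fun β hβ => ?_, ?_⟩
  · -- the local integers are integrally closed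
    rw [Multiset.mem_toList, mem_roots hmon.ne_zero, IsRoot, eval_map] at hβ
    choose num den hden hnum using fun i : ℕ => (f.coeff i).2
    set N := f.natDegree
    set b : AlgInt := ∏ i ∈ Finset.range N, den i with hb
    have hbM : b ∉ M := fun h => by
      obtain ⟨i, -, hi⟩ := (Ideal.IsPrime.prod_mem_iff).1 h
      exact hden i hi
    have hb0 := coe_ne_zero_of_not_mem hbM
    have hint : IsIntegral ℤ ((b : ℂ) * β) := by
      refine isIntegral_trans (A := AlgInt) _ ?_
      refine ⟨X ^ N + ∑ i ∈ Finset.range N,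
        C (num i * (∏ j ∈ (Finset.range N).erase i, den j) * b ^ (N - i - 1)) * X ^ i,
        monic_X_pow_add (lt_of_le_of_lt (degree_sum_le _ _) ((Finset.sup_lt_iff
          (WithBot.bot_lt_coe N)).2 fun i hi => lt_of_le_of_lt (degree_C_mul_X_pow_le _ _)
            (WithBot.coe_lt_coe.2 (Finset.mem_range.1 hi)))), ?_⟩
      rw [eval₂_add, eval₂_X_pow, eval₂_finsetSum]
      rw [eval₂_eq_sum_range, Finset.sum_range_succ, show f.coeff f.natDegree = 1 from hf, map_one,
        one_mul] at hβ
      have e : ((b : ℂ)) ^ N * 0 = 0 := mul_zero _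
      rw [← hβ, mul_add, ← mul_pow, Finset.mul_sum, add_comm] at e
      refine (Eq.trans ?_ e).trans hβ
      congr 1
      refine Finset.sum_congr rfl fun i hi => ?_
      rw [eval₂_mul, eval₂_C, eval₂_X_pow]
      show (((num i * (∏ j ∈ (Finset.range N).erase i, den j) * b ^ (N - i - 1) : AlgInt)) : ℂ) *
        ((b : ℂ) * β) ^ i = (b : ℂ) ^ N * ((f.coeff i : ℂ) * β ^ i)
      rw [show ((f.coeff i : localInt M) : ℂ) = (num i : ℂ) / den i from (hnum i).symm]
      have hN : N = (N - i - 1) + 1 + i := by have := Finset.mem_range.1 hi; omega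
      conv_rhs => rw [hN, pow_add, pow_succ]
      have hbi : (b : ℂ) = ((∏ j ∈ (Finset.range N).erase i, den j : AlgInt) : ℂ) * (den i : ℂ) := by
        rw [hb, ← Finset.prod_erase_mul _ _ hi]; rfl
      have hdi := coe_ne_zero_of_not_mem (hden i)
      push_cast
      rw [mul_pow]
      field_simp
      rw [hbi]
      push_cast
      ring
    exact ⟨algIntMk _ hint, b, hbM, by rw [coe_algIntMk, mul_div_cancel_left₀ _ hb0]⟩
  · have hs := (IsAlgClosed.splits (f.map (localInt M).subtype)).eq_prod_roots_of_monic hmon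
    rw [← Multiset.prod_coe, ← Multiset.map_coe, Multiset.coe_toList, ← hs, h0]

theorem scoeff_aeval {a : MonoidAlgebra ℂ G} (ha : SCoeff M a) {P : ℂ[X]} (hP : P ∈ intPoly M) :
    SCoeff M (aeval a P) := by
  obtain ⟨Q, rfl⟩ := hP
  induction Q using Polynomial.induction_on' with
  | add Q R hQ hR => rw [map_add, map_add]; exact SCoeff.add hQ hR
  | monomial n r =>
    rw [Polynomial.coe_mapRingHom, Polynomial.map_monomial, aeval_monomial, Algebra.algebraMap_eq_smul_one, smul_one_mul]
    exact SCoeff.smul r.2 (SCoeff.pow ha n)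

theorem aeval_fixed {H : Subgroup G} {a : MonoidAlgebra ℂ G}
    (ha : a ∈ BrauerPairs.fixedBy ℂ H) (P : ℂ[X]) : aeval a P ∈ BrauerPairs.fixedBy ℂ H := by
  have h := Polynomial.aeval_algHom_apply (BrauerPairs.fixedBy ℂ H).val ⟨a, ha⟩ P
  rw [Subalgebra.coe_val] at h
  rw [h]
  exact SetLike.coe_mem _

/-- Fitting: an idempotent `g`, polynomial in `a`, on which `a` is invertible, with `a (1 - g)`
nilpotent modulo `M`. -/
theorem exists_fitting {H : Subgroup G} {a : MonoidAlgebra ℂ G} (ha : SCoeff M a)
    (hH : a ∈ BrauerPairs.fixedBy ℂ H) :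
    ∃ g h : MonoidAlgebra ℂ G, SCoeff M g ∧ SCoeff M h ∧ g ∈ BrauerPairs.fixedBy ℂ H ∧
      h ∈ BrauerPairs.fixedBy ℂ H ∧ g * g = g ∧ a * h = g ∧ h * a = g ∧ g * h = h ∧ h * g = h ∧
      g * a = a * g ∧ IsNilpotent (redA M a - redA M a * redA M g) := by
  obtain ⟨l, hl, hl0⟩ := exists_roots ha
  set l0 := l.filter (fun β => decide (MemLocalIdeal M β)) with hl0d
  set l1 := l.filter (fun β => !decide (MemLocalIdeal M β)) with hl1d
  have h0 : ∀ α ∈ l0, MemLocalIdeal M α := fun α hα => by simpa using (List.mem_filter.1 hα).2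
  have h1 : ∀ β ∈ l1, MemLocalRing M β ∧ ¬ MemLocalIdeal M β := fun β hβ =>
    ⟨hl β (List.mem_filter.1 hβ).1, by simpa using (List.mem_filter.1 hβ).2⟩
  obtain ⟨Q, hQ, hd0, hd1⟩ := exists_sep h0 h1
  set f0 := ((0 :: l0).map fun α => X - C α).prod with hf0
  set f1 := (l1.map fun β => X - C β).prod with hf1
  have hsplit : aeval a (f0 * f1) = 0 := by
    have hp : (l0 ++ l1).Perm l := List.filter_append_perm _ l
    have e : (l.map fun β => X - C β).prod = (l0.map fun α => X - C α).prod * f1 := by
      rw [← (hp.map _).prod_eq, List.map_append, List.prod_append]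
    rw [hf0, List.map_cons, List.prod_cons, mul_assoc, ← e, map_mul, hl0, mul_zero]
  set Gp := X * Q with hGp
  have hkill : ∀ P : ℂ[X], f0 * f1 ∣ P → aeval a P = 0 := fun P ⟨q, hq⟩ => by
    rw [hq, map_mul, hsplit, zero_mul]
  have hidem : aeval a (Gp * Gp) = aeval a Gp := by
    rw [← sub_eq_zero, ← map_sub]
    refine hkill _ ?_
    rw [show Gp * Gp - Gp = -(Gp * (1 - Gp)) by ring]
    exact (mul_dvd_mul hd0 hd1).neg_right
  have hGpI : Gp ∈ intPoly M := mul_mem X_mem hQ
  have haX : ∀ P : ℂ[X], a * aeval a P = aeval a (X * P) := fun P => by rw [map_mul, aeval_X]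
  have hXa : ∀ P : ℂ[X], aeval a P * a = aeval a (P * X) := fun P => by rw [map_mul, aeval_X]
  set g := aeval a Gp with hg
  set h := aeval a (Q * Gp) with hh
  have hgg : g * g = g := by rw [hg, ← map_mul, hidem]
  have hah : a * h = g := by
    rw [hh, haX, show X * (Q * Gp) = Gp * Gp by ring, hidem]
  have hga : g * a = a * g := by rw [hg, hXa, haX, mul_comm]
  refine ⟨g, h, scoeff_aeval ha hGpI, scoeff_aeval ha (mul_mem hQ hGpI), aeval_fixed hH _,
    aeval_fixed hH _, hgg, hah, ?_, ?_, ?_, ?_, ?_⟩
  · rw [← hah, hh, hXa, haX, mul_comm]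
  · rw [hg, hh, ← map_mul, show Gp * (Q * Gp) = Q * (Gp * Gp) by ring, map_mul, hidem, ← map_mul]
  · rw [hg, hh, ← map_mul, show Q * Gp * Gp = Q * (Gp * Gp) by ring, map_mul, hidem, ← map_mul]
  · exact hga
  · -- nilpotency modulo `M`
    have hredprod : ∀ ll : List ℂ, (∀ α ∈ ll, MemLocalIdeal M α) →
        SCoeff M (aeval a (ll.map fun α => X - C α).prod) ∧
          redA M (aeval a (ll.map fun α => X - C α).prod) = redA M a ^ ll.length := by
      intro ll
      induction ll with
      | nil => exact fun _ => ⟨by simpa using scoeff_one, by simp [redA_one]⟩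
      | cons α t ih =>
        intro hll
        obtain ⟨ht, ht'⟩ := ih fun x hx => hll x (List.mem_cons_of_mem _ hx)
        have hα := hll α List.mem_cons_self
        have hs : SCoeff M (a - α • (1 : MonoidAlgebra ℂ G)) :=
          SCoeff.sub ha (SCoeff.smul (memLocalRing_of_memLocalIdeal hα) scoeff_one)
        rw [List.map_cons, List.prod_cons, map_mul, map_sub, aeval_X, aeval_C,
          Algebra.algebraMap_eq_smul_one, List.length_cons, pow_succ']
        refine ⟨SCoeff.mul hs ht, ?_⟩
        rw [redA_mul hs ht, redA_sub ha (SCoeff.smul (memLocalRing_of_memLocalIdeal hα) scoeff_one),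
          redA_smul (memLocalRing_of_memLocalIdeal hα) scoeff_one, red_eq_zero_of_mem hα, zero_smul,
          sub_zero, ht']
    set ll := (0 : ℂ) :: l0 with hll
    obtain ⟨hs, he⟩ := hredprod ll fun α hα => by
      rcases List.mem_cons.1 hα with rfl | hα
      · exact memLocalIdeal_zero
      · exact h0 α hα
    have hgS : SCoeff M g := scoeff_aeval ha hGpI
    have hz : (1 - g) * aeval a f0 = 0 := by
      rw [hg, show (1 : MonoidAlgebra ℂ G) = aeval a (1 : ℂ[X]) by simp, ← map_sub, ← map_mul]
      exact hkill _ (by rw [mul_comm (1 - Gp)]; exact mul_dvd_mul_left _ hd1)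
    have hz' := congrArg (redA M) hz
    rw [redA_mul (SCoeff.sub scoeff_one hgS) hs, redA_sub scoeff_one hgS, redA_one, redA_zero] at hz'
    rw [show aeval a f0 = aeval a (ll.map fun α => X - C α).prod from rfl] at hz'
    rw [he] at hz'
    have hc : Commute (1 - redA M g) (redA M a) := by
      have h2 := congrArg (redA M) hga
      rw [redA_mul hgS ha, redA_mul ha hgS] at h2
      exact (Commute.one_left _).sub_left h2
    refine ⟨ll.length + 1, ?_⟩
    rw [show redA M a - redA M a * redA M g = redA M a * (1 - redA M g) by rw [mul_sub, mul_one],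
      hc.symm.mul_pow, pow_succ' (1 - redA M g), ← mul_assoc]
    rw [show redA M a ^ (ll.length + 1) * (1 - redA M g) =
        redA M a * ((1 - redA M g) * redA M a ^ ll.length) by
      rw [pow_succ', mul_assoc, (hc.pow_right ll.length).eq], hz', mul_zero, zero_mul]

/-- An idempotent of `O[G]` vanishing modulo `M` is zero. -/
theorem eq_zero_of_idem_redA {e : MonoidAlgebra ℂ G} (he : SCoeff M e) (hee : e * e = e)
    (h0 : redA M e = 0) : e = 0 := by
  letI := Fintype.ofFinite G
  set A : Matrix G G ℂ := fun g x => e.coeff (g * x⁻¹) with hA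
  let r : localInt M →+* AlgInt ⧸ M :=
    { toFun := fun z => red M z.1
      map_one' := red_one
      map_zero' := red_zero
      map_mul' := fun x y => red_mul x.2 y.2
      map_add' := fun x y => red_add x.2 y.2 }
  set A' : Matrix G G (localInt M) := fun g x => ⟨e.coeff (g * x⁻¹), he _⟩
  have hdet : (1 - A).det ≠ 0 := by
    intro h
    have h1 : (1 - A' : Matrix G G (localInt M)).map (localInt M).subtype = 1 - A := by
      rw [Matrix.map_sub (localInt M).subtype (map_sub _), Matrix.map_one _ (map_zero _) (map_one _)]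
      rfl
    have h2 : (1 - A' : Matrix G G (localInt M)).map r = 1 := by
      rw [Matrix.map_sub r (map_sub _), Matrix.map_one _ (map_zero _) (map_one _)]
      refine sub_eq_self.2 (Matrix.ext fun g x => ?_)
      show red M (e.coeff (g * x⁻¹)) = 0
      rw [← coeff_redA (M := M), h0]
      simp
    have h3 : (localInt M).subtype (1 - A').det = 0 := by
      rw [RingHom.map_det, RingHom.mapMatrix_apply, h1, h]
    have h4 : r (1 - A').det = 1 := by
      rw [RingHom.map_det, RingHom.mapMatrix_apply, h2, Matrix.det_one]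
    rw [show (1 - A').det = 0 from Subtype.ext h3, map_zero] at h4
    exact zero_ne_one h4
  have hv : Matrix.mulVec (1 - A) (fun x => e.coeff x) = 0 := by
    funext g
    rw [Matrix.sub_mulVec, Matrix.one_mulVec, Pi.sub_apply, Matrix.mulVec, dotProduct,
      ← coeff_mul_eq_sum', hee, sub_self]
    rfl
  exact alg_ext fun g => by
    simpa using congrFun (Matrix.eq_zero_of_mulVec_eq_zero hdet hv) g

end Cfsg.Agent.Star
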