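import Cfsg.Agent.Lib.Star.Action
import Mathlib.Analysis.SpecialFunctions.Complex.CircleAddChar
import Mathlib.GroupTheory.FiniteAbelian.Duality
import Mathlib.RingTheory.RootsOfUnity.AlgebraicallyClosed
import Mathlib.Analysis.Complex.Polynomial.Basic
import Mathlib.GroupTheory.GroupAction.Quotient

/-!
# Counting characters by the focal subgroup

The linear characters of `P/foc(F)` act on the characters of given height of the block.
-/

set_option autoImplicit false
set_option linter.unusedSectionVars false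
set_option linter.style.haveILetI false

namespace Cfsg.Agent.Star

open Cfsg
open Agent.Blocks
open Cfsg.Agent.BrauerPairs (IsMax blk blkG BHom)
open scoped Classical

universe u

/-- A divisibility from stabilisers. -/
theorem index_dvd_card_of_stabilizer_le {Γ X : Type*} [Group Γ] [MulAction Γ X] [Finite X]
    (K : Subgroup Γ) (h : ∀ x : X, MulAction.stabilizer Γ x ≤ K) : K.index ∣ Nat.card X := by
  letI := Fintype.ofFinite (Quotient (MulAction.orbitRel Γ X))
  rw [Nat.card_congr (MulAction.selfEquivSigmaOrbits Γ X), Nat.card_sigma]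
  refine Finset.dvd_sum fun w _ => ?_
  rw [Nat.card_coe_set_eq, ← MulAction.index_stabilizer]
  exact Subgroup.index_dvd_of_le (h _)

variable {G : Type u} [Group G] {P : Subgroup G}

theorem commutator_mem_focal (F : FusionSystem P) {g a : G} (hg : g ∈ P) (ha : a ∈ P) :
    a⁻¹ * (g * a * g⁻¹) ∈ F.focalSubgroup :=
  Subgroup.subset_closure ⟨P, conjHom P g, ⟨a, ha⟩, F.conj_mem le_rfl hg, rfl⟩

theorem focal_normal (F : FusionSystem P) : (F.focalSubgroup.subgroupOf P).Normal := by
  refine ⟨fun x hx g => ?_⟩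
  have h := mul_mem (Subgroup.mem_subgroupOf.1 hx) (commutator_mem_focal F g.2 x.2)
  rw [mul_inv_cancel_left] at h
  exact Subgroup.mem_subgroupOf.2 h

theorem quot_comm (F : FusionSystem P) [(F.focalSubgroup.subgroupOf P).Normal]
    (a b : P ⧸ F.focalSubgroup.subgroupOf P) : a * b = b * a := by
  induction a using QuotientGroup.induction_on with
  | H x =>
    induction b using QuotientGroup.induction_on with
    | H y =>
      rw [← QuotientGroup.mk_mul, ← QuotientGroup.mk_mul, QuotientGroup.eq, Subgroup.mem_subgroupOf]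
      have h := commutator_mem_focal F (inv_mem y.2) x.2
      have e : (((x * y)⁻¹ * (y * x) : P) : G) = ((x : G)⁻¹ * (((y : G)⁻¹) * x * ((y : G)⁻¹)⁻¹))⁻¹ := by
        simp [mul_assoc]
      rw [e]
      exact inv_mem h

/-- `P/foc(F)` is abelian. -/
@[reducible] def quotCommGroup (F : FusionSystem P) [(F.focalSubgroup.subgroupOf P).Normal] :
    CommGroup (P ⧸ F.focalSubgroup.subgroupOf P) :=
  { (inferInstance : Group (P ⧸ F.focalSubgroup.subgroupOf P)) with mul_comm := quot_comm F }

variable [Finite G] {p : ℕ} [hp : Fact p.Prime] {M : Ideal AlgInt} [M.IsMaximal]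
  [CharP (AlgInt ⧸ M) p] {B : Set (IrrCharacter G)}
  {e : Set (IrrCharacter (Subgroup.centralizer (P : Set G)))} {F : FusionSystem P}
  [(F.focalSubgroup.subgroupOf P).Normal]

/-- The function on `G` of a linear character of `P/foc(F)`. -/
noncomputable def lamOf (φ : (P ⧸ F.focalSubgroup.subgroupOf P) →* ℂˣ) (x : G) : ℂ :=
  if h : x ∈ P then (φ (QuotientGroup.mk (⟨x, h⟩ : P)) : ℂ) else 0

theorem lamOf_mk (φ : (P ⧸ F.focalSubgroup.subgroupOf P) →* ℂˣ) (x : P) :
    lamOf φ (x : G) = (φ (QuotientGroup.mk x) : ℂ) := by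
  rw [lamOf, dif_pos x.2]

theorem lamOf_mul (φ φ' : (P ⧸ F.focalSubgroup.subgroupOf P) →* ℂˣ) :
    lamOf (φ * φ') = lamOf φ * lamOf φ' := by
  funext x
  by_cases h : x ∈ P
  · simp only [lamOf, dif_pos h, Pi.mul_apply, MonoidHom.mul_apply, Units.val_mul]
  · simp only [lamOf, dif_neg h, Pi.mul_apply, mul_zero]

theorem isStable_lamOf (hmax : IsMax p (blkG M B) (P, blk M _ e)) (he : IsPBlock M e)
    (hF : IsBlockFusionSystemOn p M B P e F) (φ : (P ⧸ F.focalSubgroup.subgroupOf P) →* ℂˣ) :
    IsStable p P (blk M _ e) (lamOf φ) := by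
  refine ⟨?_, fun x hx y hy => ?_, fun g Q hg x hx => ?_⟩
  · rw [show (1 : G) = ((1 : P) : G) from rfl, lamOf_mk, QuotientGroup.mk_one, map_one, Units.val_one]
  · rw [show x * y = (((⟨x, hx⟩ : P) * ⟨y, hy⟩ : P) : G) from rfl, lamOf_mk, QuotientGroup.mk_mul,
      map_mul, Units.val_mul, lamOf, lamOf, dif_pos hx, dif_pos hy]
  · have hφ : conjHom Q g ∈ F.Hom Q := (hF.2 Q _).2
      ((BrauerPairs.blockHom_iff he hmax.1.1 Q _).2 ⟨g, fun _ => rfl, hg⟩)
    have hxP : x ∈ P := hg.1 hx
    have hgxP : g * x * g⁻¹ ∈ P := hg.map_le ⟨x, hx, rfl⟩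
    have hf : x⁻¹ * (g * x * g⁻¹) ∈ F.focalSubgroup :=
      Subgroup.subset_closure ⟨Q, conjHom Q g, ⟨x, hx⟩, hφ, rfl⟩
    rw [lamOf, lamOf, dif_pos hgxP, dif_pos hxP,
      show QuotientGroup.mk (s := F.focalSubgroup.subgroupOf P) (⟨x, hxP⟩ : P) =
        QuotientGroup.mk (⟨g * x * g⁻¹, hgxP⟩ : P) from
        QuotientGroup.eq.2 (Subgroup.mem_subgroupOf.2 hf)]

/-- The characters of height `h` in `B`. -/
abbrev HeightSet (p : ℕ) (B : Set (IrrCharacter G)) (h : ℕ) : Type u :=
  {χ : IrrCharacter G // χ ∈ B ∧ blockHeight p B (χ : G → ℂ) = h}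

variable (hpM : (p : AlgInt) ∈ M) (hB : IsPBlock M B) (hmax : IsMax p (blkG M B) (P, blk M _ e))
  (he : IsPBlock M e) (hF : IsBlockFusionSystemOn p M B P e F)

include hpM hB hmax he hF in
theorem exists_image (h : ℕ) (φ : (P ⧸ F.focalSubgroup.subgroupOf P) →* ℂˣ) (χ : HeightSet p B h) :
    ∃ ψ : HeightSet p B h,
      ψ.1.1 = star (M := M) p B P (blk M _ e) (lamOf φ) χ.1.1 := by
  obtain ⟨ψ, h1, h2, h3⟩ := exists_star_irr hpM hB hmax (isStable_lamOf hmax he hF φ) χ.2.1
  refine ⟨⟨ψ, h2, ?_⟩, h1⟩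
  have hd : charDegree (ψ : G → ℂ) = charDegree (χ.1 : G → ℂ) := by
    rw [charDegree_eq, charDegree_eq]
    have := h3
    rw [Char.apply_one_eq_degree, Char.apply_one_eq_degree] at this
    exact_mod_cast this
  rw [blockHeight, hd]
  exact χ.2.2

/-- The action of the linear characters of `P/foc(F)`. -/
@[reducible] noncomputable def heightAction (h : ℕ) :
    MulAction ((P ⧸ F.focalSubgroup.subgroupOf P) →* ℂˣ) (HeightSet p B h) where
  smul φ χ := (exists_image hpM hB hmax he hF h φ χ).choose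
  one_smul χ := by
    refine Subtype.ext (Subtype.ext ?_)
    show (exists_image hpM hB hmax he hF h 1 χ).choose.1.1 = χ.1.1
    rw [(exists_image hpM hB hmax he hF h 1 χ).choose_spec,
      star_of_eq_one hpM hB hmax (isStable_lamOf hmax he hF 1) (fun x hx => ?_) χ.2.1]
    rw [lamOf, dif_pos hx, MonoidHom.one_apply, Units.val_one]
  mul_smul φ φ' χ := by
    refine Subtype.ext (Subtype.ext ?_)
    show (exists_image hpM hB hmax he hF h (φ * φ') χ).choose.1.1 =
      (exists_image hpM hB hmax he hF h φ (exists_image hpM hB hmax he hF h φ' χ).choose).choose.1.1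
    have h12 := isStable_lamOf hmax he hF (φ * φ')
    rw [lamOf_mul] at h12
    rw [(exists_image hpM hB hmax he hF h (φ * φ') χ).choose_spec,
      (exists_image hpM hB hmax he hF h φ (exists_image hpM hB hmax he hF h φ' χ).choose).choose_spec,
      star_star hpM hB hmax (isStable_lamOf hmax he hF φ') (isStable_lamOf hmax he hF φ) h12
        (exists_image hpM hB hmax he hF h φ' χ).choose_spec, lamOf_mul]

include hpM hB hmax he hF in
theorem fixed_eq_star (h : ℕ) (φ : (P ⧸ F.focalSubgroup.subgroupOf P) →* ℂˣ) (χ : HeightSet p B h)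
    (hfix : letI := heightAction hpM hB hmax he hF h; φ • χ = χ) :
    χ.1.1 = star (M := M) p B P (blk M _ e) (lamOf φ) χ.1.1 := by
  have h1 := (exists_image hpM hB hmax he hF h φ χ).choose_spec
  rwa [show (exists_image hpM hB hmax he hF h φ χ).choose = χ from hfix] at h1

include hpM hB hmax he hF in
theorem focal_index_dvd_height_zero :
    (F.focalSubgroup.subgroupOf P).index ∣ Nat.card (HeightSet (G := G) p B 0) := by
  letI := quotCommGroup F
  letI := heightAction hpM hB hmax he hF 0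
  haveI : NeZero (Monoid.exponent (P ⧸ F.focalSubgroup.subgroupOf P)) :=
    ⟨Monoid.exponent_ne_zero_of_finite⟩
  have hcard : Nat.card ((P ⧸ F.focalSubgroup.subgroupOf P) →* ℂˣ) =
      (F.focalSubgroup.subgroupOf P).index :=
    CommGroup.card_monoidHom_of_hasEnoughRootsOfUnity _ _
  have h := index_dvd_card_of_stabilizer_le (X := HeightSet (G := G) p B 0)
    (⊥ : Subgroup ((P ⧸ F.focalSubgroup.subgroupOf P) →* ℂˣ)) fun χ φ hφ => ?_
  · rwa [Subgroup.index_bot, hcard] at h
  rw [Subgroup.mem_bot]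
  refine MonoidHom.ext fun a => ?_
  induction a using QuotientGroup.induction_on with
  | H x =>
    have h1 := lam_eq_one_of_height_zero hpM hB hmax (isStable_lamOf hmax he hF φ) χ.2.1 χ.2.2
      (fixed_eq_star hpM hB hmax he hF 0 φ χ hφ) x.2
    rw [lamOf_mk] at h1
    exact Units.ext h1

include hpM hB hmax he hF in
theorem center_index_dvd_height (h : ℕ) :
    ((P ⊓ Subgroup.centralizer (P : Set G) ⊓ F.focalSubgroup).subgroupOf
      (P ⊓ Subgroup.centralizer (P : Set G))).index ∣ Nat.card (HeightSet (G := G) p B h) := by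
  letI := quotCommGroup F
  letI := heightAction hpM hB hmax he hF h
  haveI : NeZero (Monoid.exponent (P ⧸ F.focalSubgroup.subgroupOf P)) :=
    ⟨Monoid.exponent_ne_zero_of_finite⟩
  set Z : Subgroup G := P ⊓ Subgroup.centralizer (P : Set G)
  let f : Z →* P ⧸ F.focalSubgroup.subgroupOf P :=
    (QuotientGroup.mk' _).comp (Subgroup.inclusion inf_le_left)
  have hker : f.ker = (Z ⊓ F.focalSubgroup).subgroupOf Z := by
    ext z
    rw [MonoidHom.mem_ker, Subgroup.mem_subgroupOf, Subgroup.mem_inf]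
    show QuotientGroup.mk (Subgroup.inclusion inf_le_left z) = 1 ↔ _
    rw [QuotientGroup.eq_one_iff, Subgroup.mem_subgroupOf]
    exact ⟨fun hz => ⟨z.2, hz⟩, fun hz => hz.2⟩
  rw [← hker, Subgroup.index_ker]
  haveI : NeZero (Monoid.exponent f.range) := ⟨Monoid.exponent_ne_zero_of_finite⟩
  let res := MonoidHom.domRestrictHom f.range ℂˣ
  have hres : res.ker.index = Nat.card f.range := by
    rw [Subgroup.index_ker, MonoidHom.range_eq_top.2 (MonoidHom.domRestrict_surjective ℂ f.range),
      Subgroup.card_top]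
    exact CommGroup.card_monoidHom_of_hasEnoughRootsOfUnity _ _
  rw [← hres]
  refine index_dvd_card_of_stabilizer_le res.ker fun χ φ hφ => ?_
  rw [MonoidHom.mem_ker]
  refine MonoidHom.ext ?_
  rintro ⟨_, z, rfl⟩
  have h1 := lam_eq_one_of_center hpM hB hmax (isStable_lamOf hmax he hF φ) χ.2.1
    (fixed_eq_star hpM hB hmax he hF h φ χ hφ) z.2
  rw [lamOf, dif_pos (show (z : G) ∈ P from z.2.1)] at h1
  exact Units.ext h1

end Cfsg.Agent.Star
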