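import Cfsg.Agent.Lib.Star.Fitting
import Cfsg.Agent.Lib.BrauerPairs.Idem
import Cfsg.Agent.Lib.Blocks.SecondMain

/-!
# Idempotent lifts and the trace at a `p`-section of idempotents modulo `M`

`kappa g u w`: for an idempotent `w` of `(AlgInt/M)[C(u)]` fixed by `g` (`u` the `p`-part of `g`), the value
`χ(g X)` for any idempotent `X` of `O[G]` fixed by `g` with `Br_u(X) = w`. It is additive on orthogonal
idempotents and invariant under equivalence.
-/

set_option autoImplicit false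
set_option linter.unusedSectionVars false
set_option linter.style.haveILetI false

namespace Cfsg.Agent.Star

open Cfsg MonoidAlgebra
open Agent.Blocks
open Cfsg.Agent.BrauerPairs (fixedBy conjEl br coeff_conjEl mem_fixedBy_iff_coeff fixedBy_anti
  coeff_br br_mul br_br_self br_eq_self)
open scoped Classical Cfsg.Agent.Blocks

universe u

variable {M : Ideal AlgInt} [M.IsMaximal] {G : Type u} [Group G] [Finite G]

theorem redA_conjEl (g : G) (a : MonoidAlgebra ℂ G) :
    redA M (conjEl g a) = conjEl g (redA M a) :=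
  alg_ext fun x => by rw [coeff_redA, coeff_conjEl, coeff_conjEl, coeff_redA]

theorem scoeff_conjEl {a : MonoidAlgebra ℂ G} (ha : SCoeff M a) (g : G) : SCoeff M (conjEl g a) :=
  fun x => by rw [coeff_conjEl]; exact ha _

theorem redA_mem_fixedBy {H : Subgroup G} {a : MonoidAlgebra ℂ G} (ha : a ∈ fixedBy ℂ H) :
    redA M a ∈ fixedBy (AlgInt ⧸ M) H :=
  mem_fixedBy_iff_coeff.2 fun h hh x => by
    rw [coeff_redA, coeff_redA, mem_fixedBy_iff_coeff.1 ha h hh x]

/-- A fixed element lifts to a fixed element of `O[G]`. -/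
theorem exists_lift_fixed {H : Subgroup G} {z : MonoidAlgebra (AlgInt ⧸ M) G}
    (hz : z ∈ fixedBy (AlgInt ⧸ M) H) :
    ∃ a : MonoidAlgebra ℂ G, SCoeff M a ∧ a ∈ fixedBy ℂ H ∧ redA M a = z := by
  refine ⟨ofFun fun g => ((red_surjective (z.coeff g)).choose : ℂ),
    scoeff_ofFun fun g => memLocalRing_coe _, mem_fixedBy_iff_coeff.2 fun h hh x => ?_,
    alg_ext fun g => ?_⟩
  · simp only [coeff_ofFun, mem_fixedBy_iff_coeff.1 hz h hh x]
  · rw [coeff_redA, coeff_ofFun]
    exact (red_surjective (z.coeff g)).choose_spec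

/-- Fitting decomposition modulo `M`. -/
theorem exists_fitting_red {H : Subgroup G} {a : MonoidAlgebra (AlgInt ⧸ M) G}
    (ha : a ∈ fixedBy (AlgInt ⧸ M) H) :
    ∃ g h : MonoidAlgebra (AlgInt ⧸ M) G, g ∈ fixedBy (AlgInt ⧸ M) H ∧ h ∈ fixedBy (AlgInt ⧸ M) H ∧
      g * g = g ∧ a * h = g ∧ h * a = g ∧ g * h = h ∧ h * g = h ∧ g * a = a * g ∧
      IsNilpotent (a - a * g) := by
  obtain ⟨A, hA, hAf, rfl⟩ := exists_lift_fixed ha
  obtain ⟨g, h, hg, hh, hgf, hhf, h1, h2, h3, h4, h5, h6, h7⟩ := exists_fitting hA hAf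
  refine ⟨redA M g, redA M h, redA_mem_fixedBy hgf, redA_mem_fixedBy hhf, ?_, ?_, ?_, ?_, ?_, ?_, h7⟩
  · rw [← redA_mul hg hg, h1]
  · rw [← redA_mul hA hh, h2]
  · rw [← redA_mul hh hA, h3]
  · rw [← redA_mul hg hh, h4]
  · rw [← redA_mul hh hg, h5]
  · rw [← redA_mul hg hA, ← redA_mul hA hg, h6]

/-- If a multiplicative map sends `a` to the idempotent `e`, it sends its Fitting idempotent to `e`. -/
theorem fitting_image {R : Type*} [Ring R] {e g h : R} (he : e * e = e) (hgg : g * g = g)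
    (hah : e * h = g) (hga : g * e = e * g) (hnil : IsNilpotent (e - e * g)) : g = e := by
  have h1 : e * g = g := by rw [← hah, ← mul_assoc, he]
  rw [h1] at hnil hga
  refine (sub_eq_zero.1 (BrauerPairs.eq_zero_of_idem_nilpotent ?_ hnil)).symm
  rw [sub_mul, mul_sub, mul_sub, he, h1, hga, hgg]
  abel

/-- Idempotents lift. -/
theorem exists_idem_lift {H : Subgroup G} {e : MonoidAlgebra (AlgInt ⧸ M) G}
    (he : e * e = e) (hef : e ∈ fixedBy (AlgInt ⧸ M) H) :
    ∃ X : MonoidAlgebra ℂ G, SCoeff M X ∧ X ∈ fixedBy ℂ H ∧ X * X = X ∧ redA M X = e := by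
  obtain ⟨a, ha, haf, hae⟩ := exists_lift_fixed hef
  obtain ⟨g, h, hg, hh, hgf, hhf, h1, h2, h3, h4, h5, h6, h7⟩ := exists_fitting ha haf
  refine ⟨g, hg, hgf, h1, fitting_image he (h := redA M h) ?_ ?_ ?_ ?_⟩
  · rw [← redA_mul hg hg, h1]
  · rw [← hae, ← redA_mul ha hh, h2]
  · rw [← hae, ← redA_mul hg ha, ← redA_mul ha hg, h6]
  · rw [← hae]; exact h7

theorem commute_single_of_fixed {g : G} {X : MonoidAlgebra ℂ G}
    (hX : X ∈ fixedBy ℂ (Subgroup.zpowers g)) : Commute X (MonoidAlgebra.single g 1) :=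
  commute_single_of_invariant fun x => mem_fixedBy_iff_coeff.1 hX g (Subgroup.mem_zpowers g) x

theorem chiL_mul_comm {χ : G → ℂ} (hχ : IsClassFunction G χ) (z w : MonoidAlgebra ℂ G) :
    chiL χ (z * w) = chiL χ (w * z) := by
  haveI := Fintype.ofFinite G
  conv_lhs => rw [eq_sum_single z, eq_sum_single w, Finset.sum_mul_sum]
  conv_rhs => rw [eq_sum_single z, eq_sum_single w, Finset.sum_mul_sum, Finset.sum_comm]
  simp only [chiL_sum, single_mul_single, chiL_single]
  refine Finset.sum_congr rfl fun x _ => Finset.sum_congr rfl fun y _ => ?_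
  rw [← hχ (x * y) x⁻¹, mul_comm (w.coeff y)]
  group

variable {p : ℕ} [hp : Fact p.Prime] {g u : G}

/-- An idempotent fixed by `g` that the Brauer map at the `p`-part `u` of `g` kills has trace zero
at `g`. -/
theorem chiL_idem_eq_zero (hpM : (p : AlgInt) ∈ M) (hg : IsPPart p g u) (χ : IrrCharacter G)
    {Z : MonoidAlgebra ℂ G} (hZ : SCoeff M Z) (hZf : Z ∈ fixedBy ℂ (Subgroup.zpowers g))
    (hZZ : Z * Z = Z) (h0 : br (Subgroup.zpowers u) (redA M Z) = 0) :
    chiL χ.1 (Z * MonoidAlgebra.single g 1) = 0 := by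
  set C := Subgroup.centralizer (Subgroup.zpowers u : Set G) with hC
  set H := Subgroup.zpowers g with hH
  have hHC : H ≤ C := by
    rw [hH, Subgroup.zpowers_le, hC, centralizer_zpowers_eq, Subgroup.mem_centralizer_singleton_iff]
    obtain ⟨y, hy, hc, -, -⟩ := hg
    rw [← hy, mul_assoc, ← hc.eq]
  -- split off the part on `C`
  set Zi := inclA C (ofFun fun c : C => Z.coeff c) with hZi
  have hZiS : SCoeff M Zi := scoeff_inclA (scoeff_ofFun fun c => hZ _)
  have hcoe : ∀ x, Zi.coeff x = if x ∈ C then Z.coeff x else 0 := fun x => by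
    split_ifs with hx
    · rw [hZi, show x = ((⟨x, hx⟩ : C) : G) from rfl, coeff_inclA, coeff_ofFun]
    · rw [hZi, coeff_inclA_of_notMem _ hx]
  have hCN : ∀ h ∈ H, ∀ x, (h * x * h⁻¹ ∈ C ↔ x ∈ C) := fun h hh x =>
    ⟨fun hx => by simpa [mul_assoc] using mul_mem (mul_mem (inv_mem (hHC hh)) hx) (hHC hh),
      fun hx => mul_mem (mul_mem (hHC hh) hx) (inv_mem (hHC hh))⟩
  have hZif : Zi ∈ fixedBy ℂ H := mem_fixedBy_iff_coeff.2 fun h hh x => by
    simp only [hcoe, hCN h hh x, mem_fixedBy_iff_coeff.1 hZf h hh x]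
  have hred : redA M Zi = 0 := alg_ext fun x => by
    rw [coeff_redA, hcoe]
    split_ifs with hx
    · rw [← coeff_redA, ← BrauerPairs.coeff_br_of_mem (redA M Z) hx, h0]
    · simp
  -- the inverse of `1 - Zi`
  set a : MonoidAlgebra ℂ C := 1 - ofFun fun c : C => Z.coeff c with ha
  have haS : SCoeff M a := SCoeff.sub scoeff_one (scoeff_ofFun fun c => hZ _)
  have haf : a ∈ fixedBy ℂ (Subgroup.comap C.subtype H) :=
    sub_mem (one_mem _) (mem_fixedBy_iff_coeff.2 fun h hh x => by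
      simp only [coeff_ofFun, Subgroup.coe_mul, Subgroup.coe_inv]
      exact mem_fixedBy_iff_coeff.1 hZf _ hh _)
  obtain ⟨e, w, heS, hwS, hef, hwf, hee, haw, -, -, -, hea, hnil⟩ := exists_fitting haS haf
  have hra : redA M a = 1 := by
    rw [ha, redA_sub scoeff_one (scoeff_ofFun fun c => hZ _), redA_one, sub_eq_self]
    refine alg_ext fun c => ?_
    have := congrArg (fun z => MonoidAlgebra.coeff z (c : G)) hred
    simp only [coeff_redA, hcoe, c.2, if_true] at this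
    rw [coeff_redA, coeff_ofFun, this]
    simp
  rw [hra, one_mul] at hnil
  have he1 : e = 1 := by
    have h1 : (1 - redA M e) * (1 - redA M e) = 1 - redA M e := by
      have : redA M e * redA M e = redA M e := by rw [← redA_mul heS heS, hee]
      simp only [sub_mul, mul_sub, one_mul, mul_one, this, sub_self, sub_zero]
    refine (sub_eq_zero.1 (eq_zero_of_idem_redA (M := M) (SCoeff.sub scoeff_one heS) ?_ ?_)).symm
    · simp only [sub_mul, mul_sub, one_mul, mul_one, hee, sub_self, sub_zero]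
    · rw [redA_sub scoeff_one heS, redA_one]
      exact BrauerPairs.eq_zero_of_idem_nilpotent h1 hnil
  set W := inclA C w with hW
  have hWS : SCoeff M W := scoeff_inclA hwS
  have hinv : (1 - Zi) * W = 1 := by
    rw [hZi, hW, ← map_one (inclA C), ← map_sub, ← map_mul, ← ha, haw, he1]
  set X := (Z - Zi) * W with hX
  have hZX : Z * X = Z := by
    have : Z * (Z - Zi) = Z * (1 - Zi) := by rw [mul_sub, mul_sub, hZZ, mul_one]
    rw [hX, ← mul_assoc, this, mul_assoc, hinv, mul_one]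
  have hoff : ∀ x ∈ C, (Z - Zi).coeff x = 0 := fun x hx => by
    rw [MonoidAlgebra.coeff_sub, Finsupp.sub_apply, hcoe, if_pos hx, sub_self]
  have hgC : g ∈ C := hHC (Subgroup.mem_zpowers g)
  have hWc : Commute W (MonoidAlgebra.single g 1) := by
    rw [hW, show MonoidAlgebra.single g (1 : ℂ) = inclA C (MonoidAlgebra.single ⟨g, hgC⟩ 1) from
      (inclA_single (H := C) ⟨g, hgC⟩ 1).symm]
    refine Commute.map ?_ _
    refine commute_single_of_invariant fun x => ?_
    exact mem_fixedBy_iff_coeff.1 hwf ⟨g, hgC⟩ (Subgroup.mem_comap.2 (Subgroup.mem_zpowers g)) x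
  have hXc : Commute X (MonoidAlgebra.single g 1) :=
    ((commute_single_of_fixed hZf).sub_left (commute_single_of_fixed hZif)).mul_left hWc
  have hsupp : ∀ x, X.coeff x ≠ 0 → ¬ Commute u x := by
    intro x hx hc
    refine hx ?_
    rw [hX, hW]
    refine coeff_mul_inclA_eq_zero hoff _ ?_
    rw [hC, centralizer_zpowers_eq]
    exact Subgroup.mem_centralizer_singleton_iff.2 hc.eq.symm
  have key := chiL_mul_single_eq_zero hpM (irr_classFun χ) (memLocalRing_irr χ)
    (IsPPart.mem_zpowers hg) (IsPPart.isPElement hg) hZ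
    (SCoeff.mul (SCoeff.sub hZ hZiS) hWS) (commute_single_of_fixed hZf) hXc (by rw [hZX, hZZ]) hsupp
  rwa [hZX] at key

/-- `X` is an admissible lift of `w`. -/
def IsLiftAt (M : Ideal AlgInt) [M.IsMaximal] (g u : G) (X : MonoidAlgebra ℂ G)
    (w : MonoidAlgebra (AlgInt ⧸ M) G) : Prop :=
  SCoeff M X ∧ X ∈ fixedBy ℂ (Subgroup.zpowers g) ∧ X * X = X ∧ br (Subgroup.zpowers u) (redA M X) = w

/-- `χ(g X)` for an admissible lift `X` of `w`. -/
noncomputable def kappa (M : Ideal AlgInt) [M.IsMaximal] (χ : G → ℂ) (g u : G)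
    (w : MonoidAlgebra (AlgInt ⧸ M) G) : ℂ :=
  if h : ∃ X, IsLiftAt M g u X w then chiL χ (h.choose * MonoidAlgebra.single g 1) else 0

theorem zpowers_le_of_isPPart (hg : IsPPart p g u) : Subgroup.zpowers u ≤ Subgroup.zpowers g :=
  Subgroup.zpowers_le.2 (IsPPart.mem_zpowers hg)

theorem exists_liftAt {w : MonoidAlgebra (AlgInt ⧸ M) G}
    (hw : w * w = w) (hwf : w ∈ fixedBy (AlgInt ⧸ M) (Subgroup.zpowers g))
    (hws : br (Subgroup.zpowers u) w = w) : ∃ X, IsLiftAt M g u X w := by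
  obtain ⟨X, h1, h2, h3, h4⟩ := exists_idem_lift hw hwf
  exact ⟨X, h1, h2, h3, by rw [h4, hws]⟩

section

variable [CharP (AlgInt ⧸ M) p]

theorem isLiftAt.br_idem (hg : IsPPart p g u) {X : MonoidAlgebra ℂ G}
    {w : MonoidAlgebra (AlgInt ⧸ M) G} (hX : IsLiftAt M g u X w) : w * w = w := by
  obtain ⟨hS, hf, hXX, rfl⟩ := hX
  have hfu := redA_mem_fixedBy (M := M) (fixedBy_anti (zpowers_le_of_isPPart hg) hf)
  rw [← br_mul (p := p) (isPGroup_zpowers (IsPPart.isPElement hg)) hfu hfu,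
    ← redA_mul hS hS, hXX]

/-- Lifts of equivalent idempotents have the same trace at `g`. -/
theorem chiL_eq_of_equiv (hpM : (p : AlgInt) ∈ M) (hg : IsPPart p g u) (χ : IrrCharacter G)
    {X Y : MonoidAlgebra ℂ G} {e f a b : MonoidAlgebra (AlgInt ⧸ M) G} (hX : IsLiftAt M g u X e)
    (hY : IsLiftAt M g u Y f) (ha : a ∈ fixedBy (AlgInt ⧸ M) (Subgroup.zpowers g))
    (hb : b ∈ fixedBy (AlgInt ⧸ M) (Subgroup.zpowers g)) (has : br (Subgroup.zpowers u) a = a)
    (hbs : br (Subgroup.zpowers u) b = b) (hab : a * b = e) (hba : b * a = f) :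
    chiL χ.1 (X * MonoidAlgebra.single g 1) = chiL χ.1 (Y * MonoidAlgebra.single g 1) := by
  have he := isLiftAt.br_idem hg hX
  have hf := isLiftAt.br_idem hg hY
  obtain ⟨hXS, hXf, hXX, hXe⟩ := hX
  obtain ⟨hYS, hYf, hYY, hYe⟩ := hY
  obtain ⟨A, hAS, hAf, hAe⟩ := exists_lift_fixed ha
  obtain ⟨B, hBS, hBf, hBe⟩ := exists_lift_fixed hb
  set P := X * A * Y with hP
  set Q₀ := Y * B * X with hQ₀
  set c := P * Q₀ with hc
  have hPS : SCoeff M P := SCoeff.mul (SCoeff.mul hXS hAS) hYS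
  have hQS : SCoeff M Q₀ := SCoeff.mul (SCoeff.mul hYS hBS) hXS
  have hPf : P ∈ fixedBy ℂ (Subgroup.zpowers g) := mul_mem (mul_mem hXf hAf) hYf
  have hQf : Q₀ ∈ fixedBy ℂ (Subgroup.zpowers g) := mul_mem (mul_mem hYf hBf) hXf
  obtain ⟨E, h, hES, hhS, hEf, hhf, hEE, hch, hhc, hEh, hhE, hEc, hnil⟩ :=
    exists_fitting (SCoeff.mul hPS hQS) (mul_mem hPf hQf)
  have hu : IsPGroup p (Subgroup.zpowers u) := isPGroup_zpowers (IsPPart.isPElement hg)
  -- the Brauer map as a multiplicative map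
  let β : MonoidAlgebra ℂ G → MonoidAlgebra (AlgInt ⧸ M) G := fun z =>
    br (Subgroup.zpowers u) (redA M z)
  have hβ : ∀ {z w : MonoidAlgebra ℂ G}, SCoeff M z → SCoeff M w →
      z ∈ fixedBy ℂ (Subgroup.zpowers g) → w ∈ fixedBy ℂ (Subgroup.zpowers g) →
      β (z * w) = β z * β w := fun hz hw hzf hwf => by
    show br _ (redA M _) = _
    rw [redA_mul hz hw, br_mul (p := p) hu
      (redA_mem_fixedBy (fixedBy_anti (zpowers_le_of_isPPart hg) hzf))
      (redA_mem_fixedBy (fixedBy_anti (zpowers_le_of_isPPart hg) hwf))]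
  have hβA : β A = a := by show br _ (redA M A) = _; rw [hAe, has]
  have hβB : β B = b := by show br _ (redA M B) = _; rw [hBe, hbs]
  have hβX : β X = e := hXe
  have hβY : β Y = f := hYe
  have hβP : β P = e * a * f := by
    rw [hP, hβ (SCoeff.mul hXS hAS) hYS (mul_mem hXf hAf) hYf, hβ hXS hAS hXf hAf, hβA, hβX, hβY]
  have hβQ : β Q₀ = f * b * e := by
    rw [hQ₀, hβ (SCoeff.mul hYS hBS) hXS (mul_mem hYf hBf) hXf, hβ hYS hBS hYf hBf, hβB, hβX, hβY]
  have hPQ : (e * a * f) * (f * b * e) = e := by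
    calc e * a * f * (f * b * e) = e * a * (f * f) * b * e := by simp only [mul_assoc]
      _ = (a * b) * a * (b * a) * b * (a * b) := by rw [hf, hab, hba]
      _ = (a * b) * (a * b) * (a * b) * (a * b) := by simp only [mul_assoc]
      _ = e := by rw [hab, he, he, he]
  have hQP : (f * b * e) * (e * a * f) = f := by
    calc f * b * e * (e * a * f) = f * b * (e * e) * a * f := by simp only [mul_assoc]
      _ = (b * a) * b * (a * b) * a * (b * a) := by rw [he, hab, hba]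
      _ = (b * a) * (b * a) * (b * a) * (b * a) := by simp only [mul_assoc]
      _ = f := by rw [hba, hf, hf, hf]
  have hβc : β c = e := by rw [hc, hβ hPS hQS hPf hQf, hβP, hβQ, hPQ]
  have hcS : SCoeff M c := SCoeff.mul hPS hQS
  have hcf : c ∈ fixedBy ℂ (Subgroup.zpowers g) := mul_mem hPf hQf
  have hβh : e * β h = β E := by rw [← hβc, ← hβ hcS hhS hcf hhf, hch]
  have hβE : β E = e := by
    refine fitting_image he (h := β h) ?_ hβh ?_ ?_
    · rw [← hβ hES hES hEf hEf, hEE]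
    · rw [← hβc, ← hβ hES hcS hEf hcf, ← hβ hcS hES hcf hEf, hEc]
    · obtain ⟨n, hn⟩ := hnil
      refine ⟨n + 1, ?_⟩
      have hd : redA M c - redA M c * redA M E = redA M (c - c * E) := by
        rw [redA_sub hcS (SCoeff.mul hcS hES), redA_mul hcS hES]
      have hdS : SCoeff M (c - c * E) := SCoeff.sub hcS (SCoeff.mul hcS hES)
      have hdf : c - c * E ∈ fixedBy ℂ (Subgroup.zpowers g) := sub_mem hcf (mul_mem hcf hEf)
      have hpow : ∀ k : ℕ, β ((c - c * E) ^ k * (c - c * E)) = β (c - c * E) ^ (k + 1) := by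
        intro k
        induction k with
        | zero => simp
        | succ k ih =>
          rw [pow_succ, hβ (SCoeff.mul (SCoeff.pow hdS k) hdS) hdS
            (mul_mem (pow_mem hdf k) hdf) hdf, ih, ← pow_succ]
      have hd' : β (c - c * E) = e - e * β E := by
        rw [← hβc, ← hβ hcS hES hcf hEf]
        show br _ (redA M _) = br _ (redA M _) - br _ (redA M _)
        rw [redA_sub hcS (SCoeff.mul hcS hES), map_sub]
      rw [← hd', ← hpow]
      show br _ (redA M _) = 0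
      rw [redA_mul (SCoeff.pow hdS n) hdS, redA_pow hdS, ← hd, hn, zero_mul, map_zero]
  have hXc : X * c = c := by rw [hc, hP]; simp only [← mul_assoc, hXX]
  have hcX : c * X = c := by rw [hc, hQ₀]; simp only [mul_assoc, hXX]
  have hXE : X * E = E := by rw [← hch, ← mul_assoc, hXc]
  have hEX : E * X = E := by rw [← hhc, mul_assoc, hcX]
  have h1 : chiL χ.1 (X * MonoidAlgebra.single g 1) = chiL χ.1 (E * MonoidAlgebra.single g 1) := by
    rw [← sub_eq_zero, ← chiL_sub, ← sub_mul]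
    refine chiL_idem_eq_zero hpM hg χ (SCoeff.sub hXS hES) (sub_mem hXf hEf) ?_ ?_
    · rw [sub_mul, mul_sub, mul_sub, hXX, hXE, hEX, hEE]; abel
    · rw [redA_sub hXS hES, map_sub]
      exact sub_eq_zero.2 (hXe.trans hβE.symm)
  set Q := Q₀ * h with hQd
  have hQS' : SCoeff M Q := SCoeff.mul hQS hhS
  have hQf' : Q ∈ fixedBy ℂ (Subgroup.zpowers g) := mul_mem hQf hhf
  have hPQ' : P * Q = E := by rw [hQd, ← mul_assoc, ← hc, hch]
  have hQE : Q * E = Q := by rw [hQd, mul_assoc, hhE]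
  have hidem : Q * P * (Q * P) = Q * P := by
    rw [mul_assoc, ← mul_assoc P, hPQ', ← mul_assoc, hQE]
  have hβQP : β (Q * P) = f := by
    rw [hβ hQS' hPS hQf' hPf, hQd, hβ hQS hhS hQf hhf, hβP, hβQ]
    have : f * b * e * β h = f * b * e := by
      rw [mul_assoc _ e, hβh, hβE]
    rw [this, hQP]
  have h2 : chiL χ.1 (Y * MonoidAlgebra.single g 1) = chiL χ.1 (Q * P * MonoidAlgebra.single g 1) := by
    rw [← sub_eq_zero, ← chiL_sub, ← sub_mul]
    refine chiL_idem_eq_zero hpM hg χ (SCoeff.sub hYS (SCoeff.mul hQS' hPS))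
      (sub_mem hYf (mul_mem hQf' hPf)) ?_ ?_
    · have hYQ : Y * (Q * P) = Q * P := by rw [hQd, hQ₀]; simp only [← mul_assoc, hYY]
      have hQY : Q * P * Y = Q * P := by rw [hP]; simp only [mul_assoc, hYY]
      rw [sub_mul, mul_sub, mul_sub, hYY, hYQ, hQY, hidem]; abel
    · rw [redA_sub hYS (SCoeff.mul hQS' hPS), map_sub]
      exact sub_eq_zero.2 (hYe.trans hβQP.symm)
  rw [h1, h2, ← hPQ', mul_assoc Q, chiL_mul_comm (irr_classFun χ) Q, mul_assoc P, mul_assoc P,
    (commute_single_of_fixed hQf').eq]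

theorem kappa_eq (hpM : (p : AlgInt) ∈ M) (hg : IsPPart p g u) (χ : IrrCharacter G)
    {X : MonoidAlgebra ℂ G} {w : MonoidAlgebra (AlgInt ⧸ M) G} (hX : IsLiftAt M g u X w) :
    kappa M χ.1 g u w = chiL χ.1 (X * MonoidAlgebra.single g 1) := by
  have h : ∃ X, IsLiftAt M g u X w := ⟨X, hX⟩
  rw [kappa, dif_pos h]
  obtain ⟨X', hX'⟩ : ∃ X', X' = h.choose := ⟨_, rfl⟩
  rw [← hX']
  have hs : IsLiftAt M g u X' w := hX' ▸ h.choose_spec
  have hw := isLiftAt.br_idem hg hX
  have hwf : w ∈ fixedBy (AlgInt ⧸ M) (Subgroup.zpowers g) := by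
    obtain ⟨-, hf, -, he⟩ := hX
    rw [← he]
    refine BrauerPairs.br_mem_fixedBy (redA_mem_fixedBy hf) le_rfl ?_
    refine le_trans ?_ (Subgroup.centralizer_le_normalizer _)
    rw [centralizer_zpowers_eq, Subgroup.zpowers_le, Subgroup.mem_centralizer_singleton_iff]
    obtain ⟨y, hy, hc, -, -⟩ := hg
    rw [← hy, mul_assoc, ← hc.eq]
  have hwb : br (Subgroup.zpowers u) w = w := by
    obtain ⟨-, -, -, he⟩ := hX
    rw [← he, br_br_self]
  exact chiL_eq_of_equiv hpM hg χ hs hX hwf hwf hwb hwb hw hw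

theorem kappa_zero (hpM : (p : AlgInt) ∈ M) (hg : IsPPart p g u) (χ : IrrCharacter G) :
    kappa M χ.1 g u 0 = 0 := by
  rw [kappa_eq hpM hg χ (X := 0) ⟨scoeff_zero, zero_mem _, mul_zero _, by rw [redA_zero, map_zero]⟩,
    zero_mul, chiL_zero]

theorem kappa_add (hpM : (p : AlgInt) ∈ M) (hg : IsPPart p g u) (χ : IrrCharacter G)
    {w₁ w₂ : MonoidAlgebra (AlgInt ⧸ M) G} (h1 : w₁ * w₁ = w₁) (h2 : w₂ * w₂ = w₂)
    (h12 : w₁ * w₂ = 0) (h21 : w₂ * w₁ = 0)
    (hf1 : w₁ ∈ fixedBy (AlgInt ⧸ M) (Subgroup.zpowers g))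
    (hf2 : w₂ ∈ fixedBy (AlgInt ⧸ M) (Subgroup.zpowers g))
    (hb1 : br (Subgroup.zpowers u) w₁ = w₁) (hb2 : br (Subgroup.zpowers u) w₂ = w₂) :
    kappa M χ.1 g u (w₁ + w₂) = kappa M χ.1 g u w₁ + kappa M χ.1 g u w₂ := by
  have hw : (w₁ + w₂) * (w₁ + w₂) = w₁ + w₂ := by
    rw [add_mul, mul_add, mul_add, h1, h2, h12, h21, add_zero, zero_add]
  obtain ⟨X, hXS, hXf, hXX, hXe⟩ := exists_idem_lift hw (add_mem hf1 hf2)
  obtain ⟨X₁, hS1, hXf1, -, hXe1⟩ := exists_idem_lift h1 hf1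
  set a := X * X₁ * X with ha
  have haS : SCoeff M a := SCoeff.mul (SCoeff.mul hXS hS1) hXS
  have haf : a ∈ fixedBy ℂ (Subgroup.zpowers g) := mul_mem (mul_mem hXf hXf1) hXf
  have hra : redA M a = w₁ := by
    rw [ha, redA_mul (SCoeff.mul hXS hS1) hXS, redA_mul hXS hS1, hXe, hXe1, add_mul, h1, h21,
      add_zero, mul_add, h1, h12, add_zero]
  obtain ⟨E, h, hES, hhS, hEf, hhf, hEE, hah, hha, -, -, hEa, hnil⟩ := exists_fitting haS haf
  have hEw : redA M E = w₁ := by
    refine fitting_image h1 (h := redA M h) ?_ ?_ ?_ ?_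
    · rw [← redA_mul hES hES, hEE]
    · rw [← hra, ← redA_mul haS hhS, hah]
    · rw [← hra, ← redA_mul hES haS, ← redA_mul haS hES, hEa]
    · rw [← hra]; exact hnil
  have hXE : X * E = E := by
    rw [← hah, ← mul_assoc, ha]; simp only [← mul_assoc, hXX]
  have hEX : E * X = E := by
    rw [← hha, mul_assoc, ha]; simp only [mul_assoc, hXX]
  have hL : IsLiftAt M g u X (w₁ + w₂) := ⟨hXS, hXf, hXX, by rw [hXe, map_add, hb1, hb2]⟩
  have hL1 : IsLiftAt M g u E w₁ := ⟨hES, hEf, hEE, by rw [hEw, hb1]⟩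
  have hL2 : IsLiftAt M g u (X - E) w₂ :=
    ⟨SCoeff.sub hXS hES, sub_mem hXf hEf,
      by rw [sub_mul, mul_sub, mul_sub, hXX, hXE, hEX, hEE]; abel,
      by rw [redA_sub hXS hES, hXe, hEw, add_sub_cancel_left, hb2]⟩
  rw [kappa_eq hpM hg χ hL, kappa_eq hpM hg χ hL1, kappa_eq hpM hg χ hL2, sub_mul, chiL_sub]
  ring

theorem kappa_equiv (hpM : (p : AlgInt) ∈ M) (hg : IsPPart p g u) (χ : IrrCharacter G)
    {e f a b : MonoidAlgebra (AlgInt ⧸ M) G} (he : e * e = e) (hf : f * f = f)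
    (ha : a ∈ fixedBy (AlgInt ⧸ M) (Subgroup.zpowers g))
    (hb : b ∈ fixedBy (AlgInt ⧸ M) (Subgroup.zpowers g)) (has : br (Subgroup.zpowers u) a = a)
    (hbs : br (Subgroup.zpowers u) b = b) (hab : a * b = e) (hba : b * a = f) :
    kappa M χ.1 g u e = kappa M χ.1 g u f := by
  have hu : IsPGroup p (Subgroup.zpowers u) := isPGroup_zpowers (IsPPart.isPElement hg)
  have hau := fixedBy_anti (zpowers_le_of_isPPart hg) ha
  have hbu := fixedBy_anti (zpowers_le_of_isPPart hg) hb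
  obtain ⟨X, hX⟩ := exists_liftAt (M := M) (g := g) (u := u) he (hab ▸ mul_mem ha hb)
    (by rw [← hab, br_mul (p := p) hu hau hbu, has, hbs])
  obtain ⟨Y, hY⟩ := exists_liftAt (M := M) (g := g) (u := u) hf (hba ▸ mul_mem hb ha)
    (by rw [← hba, br_mul (p := p) hu hbu hau, has, hbs])
  rw [kappa_eq hpM hg χ hX, kappa_eq hpM hg χ hY]
  exact chiL_eq_of_equiv hpM hg χ hX hY ha hb has hbs hab hba

end

end Cfsg.Agent.Star
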