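import Cfsg.Agent.Lib.Star.Lift
import Mathlib.LinearAlgebra.Dimension.Finrank

/-!
# Primitive idempotents of the fixed algebra `(AlgInt/M)[G]^H`

* `exists_prim_decomp`: every idempotent is an orthogonal sum of primitive ones.
* `eps H i a`: the scalar of `a` in the local corner of the primitive idempotent `i`.
* `prime_dvd_sum_of_relTr`: if a primitive `i` for `K` is a relative trace from a normal `K'` of index
  divisible by `p`, an invariant integer function of the primitive constituents for `K'` sums to `0 mod p`.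
-/

set_option autoImplicit false
set_option linter.unusedSectionVars false
set_option linter.style.haveILetI false

namespace Cfsg.Agent.Star

open Cfsg MonoidAlgebra
open Agent.Blocks
open Cfsg.Agent.BrauerPairs (fixedBy conjEl relTr eq_zero_of_idem_nilpotent)
open scoped Classical Cfsg.Agent.Blocks

universe u

variable {M : Ideal AlgInt} [M.IsMaximal] {G : Type u} [Group G] [Finite G]

local notation "𝔸" => MonoidAlgebra (AlgInt ⧸ M) G

/-- A primitive idempotent of the fixed algebra of `H`. -/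
def IsPrim (H : Subgroup G) (i : 𝔸) : Prop :=
  i ∈ fixedBy (AlgInt ⧸ M) H ∧ i * i = i ∧ i ≠ 0 ∧
    ∀ e ∈ fixedBy (AlgInt ⧸ M) H, e * e = e → i * e = e → e * i = e → e = 0 ∨ e = i

/-- `a` lies in the corner of `i` in the fixed algebra. -/
def InCorner (H : Subgroup G) (i a : 𝔸) : Prop :=
  a ∈ fixedBy (AlgInt ⧸ M) H ∧ i * a = a ∧ a * i = a

variable {H : Subgroup G} {i a b : MonoidAlgebra (AlgInt ⧸ M) G}

theorem inCorner_self (hi : IsPrim H i) : InCorner H i i := ⟨hi.1, hi.2.1, hi.2.1⟩

theorem InCorner.mul (ha : InCorner H i a) (hb : InCorner H i b) : InCorner H i (a * b) :=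
  ⟨mul_mem ha.1 hb.1, by rw [← mul_assoc, ha.2.1], by rw [mul_assoc, hb.2.2]⟩

theorem InCorner.add (ha : InCorner H i a) (hb : InCorner H i b) : InCorner H i (a + b) :=
  ⟨add_mem ha.1 hb.1, by rw [mul_add, ha.2.1, hb.2.1], by rw [add_mul, ha.2.2, hb.2.2]⟩

theorem InCorner.sub (ha : InCorner H i a) (hb : InCorner H i b) : InCorner H i (a - b) :=
  ⟨sub_mem ha.1 hb.1, by rw [mul_sub, ha.2.1, hb.2.1], by rw [sub_mul, ha.2.2, hb.2.2]⟩

theorem InCorner.smul (c : AlgInt ⧸ M) (ha : InCorner H i a) : InCorner H i (c • a) :=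
  ⟨Subalgebra.smul_mem _ ha.1 c, by rw [mul_smul_comm, ha.2.1], by rw [smul_mul_assoc, ha.2.2]⟩

theorem InCorner.pow (hi : IsPrim H i) (ha : InCorner H i a) (n : ℕ) :
    InCorner H i (a ^ (n + 1)) := by
  induction n with
  | zero => simpa using ha
  | succ n ih => rw [pow_succ]; exact InCorner.mul ih ha

/-- In the corner of a primitive idempotent every element is invertible or nilpotent. -/
theorem unit_or_nilpotent (hi : IsPrim H i) (ha : InCorner H i a) :
    (∃ h, InCorner H i h ∧ a * h = i ∧ h * a = i) ∨ IsNilpotent a := by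
  obtain ⟨g, h, hgf, hhf, hgg, hah, hha, hgh, hhg, -, hnil⟩ := exists_fitting_red ha.1
  have h1 : i * g = g := by rw [← hah, ← mul_assoc, ha.2.1]
  have h2 : g * i = g := by rw [← hha, mul_assoc, ha.2.2]
  rcases hi.2.2.2 g hgf hgg h1 h2 with h0 | h0
  · exact Or.inr (by rwa [h0, mul_zero, sub_zero] at hnil)
  · refine Or.inl ⟨h, ⟨hhf, ?_, ?_⟩, hah.trans h0, hha.trans h0⟩
    · rw [← h0, hgh]
    · rw [← h0, hhg]

theorem not_nilpotent_prim (hi : IsPrim H i) : ¬ IsNilpotent i :=
  fun h => hi.2.2.1 (eq_zero_of_idem_nilpotent hi.2.1 h)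

/-- A right invertible element of the corner is not nilpotent. -/
theorem not_nilpotent_of_mul_eq (hi : IsPrim H i) (ha : InCorner H i a) (hb : InCorner H i b)
    (hab : a * b = i) : ¬ IsNilpotent a := by
  rintro ⟨n, hn⟩
  have key : ∀ m : ℕ, a ^ (m + 1) * b ^ (m + 1) = i := by
    intro m
    induction m with
    | zero => simpa using hab
    | succ m ih =>
      rw [pow_succ, pow_succ' b, mul_assoc (a ^ (m + 1)), ← mul_assoc a, hab]
      have hc := InCorner.pow hi hb m
      rw [hc.2.1, ih]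
  refine hi.2.2.1 ?_
  rw [← key n, pow_succ, hn, zero_mul, zero_mul]

theorem nilpotent_mul (hi : IsPrim H i) (ha : InCorner H i a) (hb : InCorner H i b)
    (hn : IsNilpotent a) : IsNilpotent (a * b) := by
  rcases unit_or_nilpotent hi (InCorner.mul ha hb) with ⟨h, hh, h1, -⟩ | h
  · exact absurd hn (not_nilpotent_of_mul_eq hi ha (InCorner.mul hb hh) (by rw [← mul_assoc, h1]))
  · exact h

theorem nilpotent_add (hi : IsPrim H i) (ha : InCorner H i a) (hb : InCorner H i b)
    (hna : IsNilpotent a) (hnb : IsNilpotent b) : IsNilpotent (a + b) := by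
  rcases unit_or_nilpotent hi (InCorner.add ha hb) with ⟨h, hh, h1, -⟩ | h
  · exfalso
    have hx := nilpotent_mul hi ha hh hna
    have hy := nilpotent_mul hi hb hh hnb
    rw [add_mul] at h1
    have hc : Commute (a * h) (b * h) := by
      rw [show b * h = i - a * h by rw [← h1, add_sub_cancel_left]]
      refine Commute.sub_right ?_ (Commute.refl _)
      exact (InCorner.mul ha hh).2.2.trans (InCorner.mul ha hh).2.1.symm
    exact not_nilpotent_prim hi (h1 ▸ hc.isNilpotent_add hx hy)
  · exact h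

theorem exists_scalar_prim (hi : IsPrim H i) (ha : InCorner H i a) :
    ∃ c : AlgInt ⧸ M, IsNilpotent (a - c • i) := by
  obtain ⟨A, hAS, -, hAe⟩ := exists_lift_fixed ha.1
  obtain ⟨l, hl, hl0⟩ := exists_roots hAS
  by_contra hno
  simp only [not_exists] at hno
  have key : ∀ t : List ℂ, (∀ β ∈ t, MemLocalRing M β) →
      SCoeff M (Polynomial.aeval A (t.map fun β => Polynomial.X - Polynomial.C β).prod) ∧
        ∃ h, InCorner H i h ∧
          h * (redA M (Polynomial.aeval A (t.map fun β => Polynomial.X - Polynomial.C β).prod) * i) = i := by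
    intro t
    induction t with
    | nil =>
      exact fun _ => ⟨by simpa using scoeff_one, i, inCorner_self hi,
        by simp [redA_one, hi.2.1]⟩
    | cons β t ih =>
      intro ht
      obtain ⟨hS, h, hh, hh'⟩ := ih fun x hx => ht x (List.mem_cons_of_mem _ hx)
      have hβ := ht β List.mem_cons_self
      have hlin : SCoeff M (A - β • (1 : MonoidAlgebra ℂ G)) :=
        SCoeff.sub hAS (SCoeff.smul hβ scoeff_one)
      have hca : InCorner H i (a - red M β • i) := InCorner.sub ha (InCorner.smul _ (inCorner_self hi))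
      rcases unit_or_nilpotent hi hca with ⟨w, hw, -, hw'⟩ | hn
      · rw [List.map_cons, List.prod_cons, map_mul, map_sub, Polynomial.aeval_X, Polynomial.aeval_C,
          Algebra.algebraMap_eq_smul_one]
        refine ⟨SCoeff.mul hlin hS, h * w, InCorner.mul hh hw, ?_⟩
        rw [redA_mul hlin hS, redA_sub hAS (SCoeff.smul hβ scoeff_one), redA_smul hβ scoeff_one,
          redA_one, hAe]
        set F := redA M (Polynomial.aeval A (t.map fun β => Polynomial.X - Polynomial.C β).prod)
        calc h * w * ((a - red M β • (1 : 𝔸)) * F * i)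
            = h * (w * (i * (a - red M β • (1 : 𝔸)))) * (F * i) := by
              conv_lhs => rw [← hw.2.2]
              simp only [mul_assoc]
          _ = h * (w * (a - red M β • i)) * (F * i) := by
              rw [mul_sub i a, ha.2.1, mul_smul_comm, mul_one]
          _ = h * (F * i) := by rw [hw', hh.2.2]
          _ = i := hh'
      · exact absurd hn (hno _)
  obtain ⟨-, h, -, hh⟩ := key l hl
  rw [hl0, redA_zero, zero_mul, mul_zero] at hh
  exact hi.2.2.1 hh.symm

/-- The scalar of `a` in the corner of `i`. -/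
noncomputable def eps (i a : 𝔸) : AlgInt ⧸ M :=
  if h : ∃ c : AlgInt ⧸ M, IsNilpotent (a - c • i) then h.choose else 0

theorem eps_eq (hi : IsPrim H i) (ha : InCorner H i a) {c : AlgInt ⧸ M}
    (hc : IsNilpotent (a - c • i)) : eps i a = c := by
  have h : ∃ c : AlgInt ⧸ M, IsNilpotent (a - c • i) := ⟨c, hc⟩
  rw [eps, dif_pos h]
  by_contra hne
  have h1 := nilpotent_add hi (InCorner.sub ha (InCorner.smul _ (inCorner_self hi)))
    (InCorner.smul (-1) (InCorner.sub ha (InCorner.smul _ (inCorner_self hi)))) h.choose_spec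
    (hc.smul (-1 : AlgInt ⧸ M))
  rw [neg_one_smul, neg_sub, add_comm, ← add_sub_assoc, sub_add_cancel, ← sub_smul] at h1
  have h2 := h1.smul (c - h.choose)⁻¹
  rw [smul_smul, inv_mul_cancel₀ (sub_ne_zero.2 (Ne.symm hne)), one_smul] at h2
  exact not_nilpotent_prim hi h2

theorem eps_spec (hi : IsPrim H i) (ha : InCorner H i a) : IsNilpotent (a - eps i a • i) := by
  have h := exists_scalar_prim hi ha
  rw [eps, dif_pos h]
  exact h.choose_spec

theorem eps_eq_zero_iff (hi : IsPrim H i) (ha : InCorner H i a) : eps i a = 0 ↔ IsNilpotent a := by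
  refine ⟨fun h => ?_, fun h => eps_eq hi ha (by rwa [zero_smul, sub_zero])⟩
  have := eps_spec hi ha
  rwa [h, zero_smul, sub_zero] at this

theorem eps_self (hi : IsPrim H i) : eps i i = 1 :=
  eps_eq hi (inCorner_self hi) (by simp)

theorem eps_zero (hi : IsPrim H i) : eps i (0 : 𝔸) = 0 :=
  eps_eq hi ⟨zero_mem _, mul_zero _, zero_mul _⟩ (by simp)

theorem eps_add (hi : IsPrim H i) (ha : InCorner H i a) (hb : InCorner H i b) :
    eps i (a + b) = eps i a + eps i b := by
  refine eps_eq hi (InCorner.add ha hb) ?_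
  rw [add_smul, add_sub_add_comm]
  exact nilpotent_add hi (InCorner.sub ha (InCorner.smul _ (inCorner_self hi)))
    (InCorner.sub hb (InCorner.smul _ (inCorner_self hi))) (eps_spec hi ha) (eps_spec hi hb)

theorem InCorner.sum {ι : Type*} (hi : IsPrim H i) (s : Finset ι) {f : ι → 𝔸}
    (hf : ∀ j ∈ s, InCorner H i (f j)) : InCorner H i (∑ j ∈ s, f j) :=
  Finset.sum_induction f _ (fun _ _ => InCorner.add) ⟨zero_mem _, mul_zero _, zero_mul _⟩ hf

theorem eps_sum {ι : Type*} (hi : IsPrim H i) (s : Finset ι) {f : ι → 𝔸}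
    (hf : ∀ j ∈ s, InCorner H i (f j)) : eps i (∑ j ∈ s, f j) = ∑ j ∈ s, eps i (f j) := by
  induction s using Finset.induction with
  | empty => simpa using eps_zero hi
  | insert j s hj ih =>
    rw [Finset.sum_insert hj, Finset.sum_insert hj, eps_add hi (hf j (Finset.mem_insert_self _ _))
      (InCorner.sum hi s fun x hx => hf x (Finset.mem_insert_of_mem hx)),
      ih fun x hx => hf x (Finset.mem_insert_of_mem hx)]

/-- `e` and `f` are equivalent idempotents of the fixed algebra. -/
def Equivalent (H : Subgroup G) (e f : 𝔸) : Prop :=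
  ∃ u v : 𝔸, u ∈ fixedBy (AlgInt ⧸ M) H ∧ v ∈ fixedBy (AlgInt ⧸ M) H ∧ u * v = e ∧ v * u = f

/-- Trace property of the scalars of primitive idempotents. -/
theorem eps_comm {y y' u v : 𝔸} (hy : IsPrim H y) (hy' : IsPrim H y')
    (hu : u ∈ fixedBy (AlgInt ⧸ M) H) (hv : v ∈ fixedBy (AlgInt ⧸ M) H) (hyu : y * u = u)
    (huy : u * y' = u) (hyv : y' * v = v) (hvy : v * y = v) :
    eps y (u * v) = eps y' (v * u) ∧ (eps y (u * v) ≠ 0 → Equivalent H y y') := by
  have huv : InCorner H y (u * v) :=
    ⟨mul_mem hu hv, by rw [← mul_assoc, hyu], by rw [mul_assoc, hvy]⟩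
  have hvu : InCorner H y' (v * u) :=
    ⟨mul_mem hv hu, by rw [← mul_assoc, hyv], by rw [mul_assoc, huy]⟩
  have hiff : IsNilpotent (u * v) ↔ IsNilpotent (v * u) := by
    have key : ∀ (x w : 𝔸) (n : ℕ), (x * w) ^ (n + 1) = x * (w * x) ^ n * w := by
      intro x w n
      induction n with
      | zero => simp
      | succ n ih => rw [pow_succ, ih, pow_succ]; simp only [mul_assoc]
    constructor
    · rintro ⟨n, hn⟩; exact ⟨n + 1, by rw [key, hn, mul_zero, zero_mul]⟩
    · rintro ⟨n, hn⟩; exact ⟨n + 1, by rw [key, hn, mul_zero, zero_mul]⟩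
  rcases eq_or_ne (eps y (u * v)) 0 with h0 | h0
  · refine ⟨?_, fun h => absurd h0 h⟩
    rw [h0, eq_comm, eps_eq_zero_iff hy' hvu, ← hiff, ← eps_eq_zero_iff hy huv]
    exact h0
  · have hnn : ¬ IsNilpotent (u * v) := fun h => h0 ((eps_eq_zero_iff hy huv).2 h)
    obtain ⟨h, hh, h1, h2⟩ := (unit_or_nilpotent hy huv).resolve_right hnn
    obtain ⟨h', hh', h1', h2'⟩ :=
      (unit_or_nilpotent hy' hvu).resolve_right fun hn => hnn (hiff.2 hn)
    refine ⟨?_, fun _ => ⟨u, v * h, hu, mul_mem hv hh.1, by rw [← mul_assoc, h1], ?_⟩⟩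
    · set c := eps y (u * v) with hc
      symm
      refine eps_eq hy' hvu ?_
      obtain ⟨n, hn⟩ := eps_spec hy huv
      rw [← hc] at hn
      have hs : ∀ m : ℕ, (v * u - c • y') ^ m * v = v * (u * v - c • y) ^ m := by
        intro m
        induction m with
        | zero => simp
        | succ m ih =>
          have e : (v * u - c • y') * v = v * (u * v - c • y) := by
            rw [sub_mul, mul_sub, mul_assoc, smul_mul_assoc, hyv, mul_smul_comm, hvy]
          rw [pow_succ, mul_assoc, e, ← mul_assoc, ih, mul_assoc, ← pow_succ]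
      refine ⟨n + 1, ?_⟩
      have hkey : (v * u - c • y') ^ n * (v * u) = 0 := by
        rw [← mul_assoc, hs, hn, mul_zero, zero_mul]
      have hw := InCorner.sub hvu (InCorner.smul c (inCorner_self hy'))
      rw [pow_succ]
      calc (v * u - c • y') ^ n * (v * u - c • y')
          = (v * u - c • y') ^ n * ((v * u) * (h' * (v * u - c • y'))) := by
            rw [← mul_assoc (v * u), h1', hw.2.1]
        _ = 0 := by rw [← mul_assoc, hkey, zero_mul]
    · -- `v h u` is a nonzero idempotent below `y'`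
      have hidem : v * h * u * (v * h * u) = v * h * u := by
        calc v * h * u * (v * h * u) = v * (h * (u * v)) * (h * u) := by simp only [mul_assoc]
          _ = v * (y * (h * u)) := by rw [h2, mul_assoc]
          _ = v * h * u := by rw [← mul_assoc y, hh.2.1, mul_assoc]
      refine (hy'.2.2.2 _ (mul_mem (mul_mem hv hh.1) hu) hidem ?_ ?_).resolve_left fun he => ?_
      · rw [← mul_assoc, ← mul_assoc, hyv]
      · rw [mul_assoc, huy]
      · refine hy.2.2.1 ?_
        rw [← hy.2.1]
        calc y * y = (u * v * h) * (u * v * h) := by rw [h1]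
          _ = u * (v * h * u) * (v * h) := by simp only [mul_assoc]
          _ = 0 := by rw [he, mul_zero, zero_mul]

/-- Orthogonal decomposition into primitive idempotents. -/
theorem exists_prim_decomp {Z : 𝔸} (hZ : Z ∈ fixedBy (AlgInt ⧸ M) H) (hZZ : Z * Z = Z) :
    ∃ (n : ℕ) (y : Fin n → 𝔸), (∀ k, IsPrim H (y k)) ∧ (∀ k l, k ≠ l → y k * y l = 0) ∧
      ∑ k, y k = Z := by
  suffices key : ∀ d : ℕ, ∀ Z : 𝔸, Z ∈ fixedBy (AlgInt ⧸ M) H → Z * Z = Z →
      Module.finrank (AlgInt ⧸ M) (LinearMap.range (LinearMap.mulLeft (AlgInt ⧸ M) Z)) = d →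
      ∃ (n : ℕ) (y : Fin n → 𝔸), (∀ k, IsPrim H (y k)) ∧ (∀ k l, k ≠ l → y k * y l = 0) ∧
        (∀ k, Z * y k = y k ∧ y k * Z = y k) ∧ ∑ k, y k = Z by
    obtain ⟨n, y, h1, h2, -, h4⟩ := key _ Z hZ hZZ rfl
    exact ⟨n, y, h1, h2, h4⟩
  intro d
  induction d using Nat.strong_induction_on with
  | _ d ih =>
    intro Z hZ hZZ hd
    rcases eq_or_ne Z 0 with rfl | hne
    · exact ⟨0, Fin.elim0, fun k => k.elim0, fun k => k.elim0, fun k => k.elim0, by simp⟩
    by_cases hp : IsPrim H Z
    · exact ⟨1, fun _ => Z, fun _ => hp, fun k l h => absurd (Subsingleton.elim k l) h,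
        fun _ => ⟨hZZ, hZZ⟩, by simp⟩
    simp only [IsPrim, hZ, hZZ, hne, ne_eq, not_false_iff, true_and, not_forall, not_or] at hp
    obtain ⟨e, hef, hee, hZe, heZ, he0, heZ'⟩ := hp
    haveI : Module.Finite (AlgInt ⧸ M) 𝔸 :=
      Module.Finite.of_basis (MonoidAlgebra.basis G (AlgInt ⧸ M))
    have hlt : ∀ w : 𝔸, w * w = w → Z * w = w → w * Z = w → w ≠ Z →
        Module.finrank (AlgInt ⧸ M) (LinearMap.range (LinearMap.mulLeft (AlgInt ⧸ M) w)) < d := by
      intro w hww hZw hwZ hwne
      rw [← hd]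
      refine Submodule.finrank_lt_finrank_of_lt (lt_of_le_of_ne ?_ fun heq => hwne ?_)
      · rintro _ ⟨z, rfl⟩
        exact ⟨w * z, by simp only [LinearMap.mulLeft_apply]; rw [← mul_assoc, hZw]⟩
      · obtain ⟨z, hz⟩ : Z ∈ LinearMap.range (LinearMap.mulLeft (AlgInt ⧸ M) w) :=
          heq ▸ ⟨Z, hZZ⟩
        simp only [LinearMap.mulLeft_apply] at hz
        calc w = w * Z := hwZ.symm
          _ = w * (w * z) := by rw [hz]
          _ = w * z := by rw [← mul_assoc, hww]
          _ = Z := hz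
    have hsub : (Z - e) * (Z - e) = Z - e := by
      simp only [sub_mul, mul_sub, hZZ, hZe, heZ, hee]; abel
    have hZs : Z * (Z - e) = Z - e := by rw [mul_sub, hZZ, hZe]
    have hsZ : (Z - e) * Z = Z - e := by rw [sub_mul, hZZ, heZ]
    obtain ⟨n₁, y₁, a1, a2, a3, a4⟩ := ih _ (hlt e hee hZe heZ heZ') e hef hee rfl
    obtain ⟨n₂, y₂, b1, b2, b3, b4⟩ := ih _ (hlt (Z - e) hsub hZs hsZ
      fun h => he0 (sub_eq_self.1 h)) (Z - e) (sub_mem hZ hef) hsub rfl
    have h12 : ∀ k l, y₁ k * y₂ l = 0 ∧ y₂ l * y₁ k = 0 := fun k l => by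
      constructor
      · rw [← (a3 k).2, ← (b3 l).1, mul_assoc, ← mul_assoc e, mul_sub, heZ, hee, sub_self, zero_mul,
          mul_zero]
      · rw [← (a3 k).1, ← (b3 l).2, mul_assoc, ← mul_assoc (Z - e), sub_mul, hZe, hee, sub_self,
          zero_mul, mul_zero]
    refine ⟨n₁ + n₂, Fin.append y₁ y₂, fun k => ?_, fun k => ?_, fun k => ?_, ?_⟩
    · induction k using Fin.addCases with
      | left k => rw [Fin.append_left]; exact a1 k
      | right k => rw [Fin.append_right]; exact b1 k
    · induction k using Fin.addCases with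
      | left k =>
        intro l hkl
        induction l using Fin.addCases with
        | left l => rw [Fin.append_left, Fin.append_left]; exact a2 k l fun h => hkl (h ▸ rfl)
        | right l => rw [Fin.append_left, Fin.append_right]; exact (h12 k l).1
      | right k =>
        intro l hkl
        induction l using Fin.addCases with
        | left l => rw [Fin.append_right, Fin.append_left]; exact (h12 l k).2
        | right l => rw [Fin.append_right, Fin.append_right]; exact b2 k l fun h => hkl (h ▸ rfl)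
    · induction k using Fin.addCases with
      | left k =>
        rw [Fin.append_left]
        exact ⟨by rw [← (a3 k).1, ← mul_assoc, hZe], by rw [← (a3 k).2, mul_assoc, heZ]⟩
      | right k =>
        rw [Fin.append_right]
        exact ⟨by rw [← (b3 k).1, ← mul_assoc, hZs], by rw [← (b3 k).2, mul_assoc, hsZ]⟩
    · rw [Fin.sum_univ_add]
      simp only [Fin.append_left, Fin.append_right, a4, b4, add_sub_cancel]

theorem corner_of_decomp {n : ℕ} {y : Fin n → 𝔸} (hy : ∀ k, IsPrim H (y k))
    (horth : ∀ k l, k ≠ l → y k * y l = 0) (k : Fin n) :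
    (∑ l, y l) * y k = y k ∧ y k * (∑ l, y l) = y k := by
  constructor
  · rw [Finset.sum_mul, Finset.sum_eq_single_of_mem k (Finset.mem_univ _) fun l _ h => horth l k h,
      (hy k).2.1]
  · rw [Finset.mul_sum, Finset.sum_eq_single_of_mem k (Finset.mem_univ _)
      fun l _ h => horth k l h.symm, (hy k).2.1]

theorem isPrim_conjEl {K' : Subgroup G} {y : 𝔸} (hy : IsPrim K' y) {t : G}
    (ht : t ∈ Subgroup.normalizer (K' : Set G)) : IsPrim K' (conjEl t y) := by
  have key : ∀ s ∈ Subgroup.normalizer (K' : Set G), ∀ z ∈ fixedBy (AlgInt ⧸ M) K',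
      conjEl s z ∈ fixedBy (AlgInt ⧸ M) K' := by
    intro s hs z hz h hh
    have hm : s⁻¹ * h * s ∈ K' := (Subgroup.mem_normalizer_iff''.1 hs h).1 hh
    rw [← BrauerPairs.conjEl_mul, show h * s = s * (s⁻¹ * h * s) by group, BrauerPairs.conjEl_mul,
      hz _ hm]
  refine ⟨key t ht y hy.1, by rw [← map_mul, hy.2.1], fun h => hy.2.2.1 ?_, ?_⟩
  · exact (conjEl t).injective (h.trans (map_zero _).symm)
  intro e hef hee h1 h2
  have hback : conjEl t (conjEl t⁻¹ e) = e := by
    rw [← BrauerPairs.conjEl_mul, mul_inv_cancel, BrauerPairs.conjEl_one]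
  rcases hy.2.2.2 (conjEl t⁻¹ e) (key _ (inv_mem ht) e hef) (by rw [← map_mul, hee])
    ((conjEl t).injective (by rw [map_mul, hback, h1]))
    ((conjEl t).injective (by rw [map_mul, hback, h2])) with h | h
  · exact Or.inl (by rw [← hback, h, map_zero])
  · exact Or.inr (by rw [← hback, h])

/-- The mod `p` count of primitive constituents of a relative trace. -/
theorem prime_dvd_sum_of_relTr {p : ℕ} [Fact p.Prime] [CharP (AlgInt ⧸ M) p] {K K' : Subgroup G}
    (hn : K ≤ Subgroup.normalizer (K' : Set G))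
    (hidx : p ∣ Nat.card (K ⧸ K'.subgroupOf K)) {i a : 𝔸}
    (hi : IsPrim K i) (ha : a ∈ fixedBy (AlgInt ⧸ M) K') (hia : i * a = a) (hai : a * i = a)
    (htr : relTr K' K a = i) {n : ℕ} {y : Fin n → 𝔸} (hy : ∀ k, IsPrim K' (y k))
    (horth : ∀ k l, k ≠ l → y k * y l = 0) (hsum : ∑ k, y k = i) (c : 𝔸 → ℤ)
    (hconj : ∀ t ∈ K, ∀ z, IsPrim K' z → i * z = z → z * i = z → c (conjEl t z) = c z)
    (hequiv : ∀ z z', IsPrim K' z → IsPrim K' z' → i * z = z → z * i = z → i * z' = z' → z' * i = z' →
      Equivalent K' z z' → c z = c z') :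
    (p : ℤ) ∣ ∑ k, c (y k) := by
  have hiy : ∀ k, i * y k = y k ∧ y k * i = y k := fun k => hsum ▸ corner_of_decomp hy horth k
  -- the weighted trace
  let L : (Fin n → 𝔸) → 𝔸 → AlgInt ⧸ M := fun z x =>
    ∑ k, (c (z k) : AlgInt ⧸ M) * eps (z k) (z k * x * z k)
  have hindep : ∀ z : Fin n → 𝔸, (∀ k, IsPrim K' (z k)) → (∀ k l, k ≠ l → z k * z l = 0) →
      ∑ k, z k = i → ∀ x, x ∈ fixedBy (AlgInt ⧸ M) K' → i * x = x → x * i = x →
        L y x = L z x := by
    intro z hz hzo hzs x hx hix hxi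
    have hiz : ∀ k, i * z k = z k ∧ z k * i = z k := fun k => hzs ▸ corner_of_decomp hz hzo k
    have e1 : ∀ k, eps (y k) (y k * x * y k) = ∑ l, eps (y k) ((y k * x * z l) * (z l * y k)) := by
      intro k
      rw [← eps_sum (hy k) _ fun l _ => ⟨mul_mem (mul_mem (mul_mem (hy k).1 hx) (hz l).1)
        (mul_mem (hz l).1 (hy k).1), by simp only [← mul_assoc, (hy k).2.1],
        by simp only [mul_assoc, (hy k).2.1]⟩]
      congr 1
      calc y k * x * y k = y k * x * (i * y k) := by rw [(hiy k).1]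
        _ = ∑ l, y k * x * (z l * y k) := by rw [← hzs, Finset.sum_mul, Finset.mul_sum]
        _ = _ := Finset.sum_congr rfl fun l _ => by
            rw [mul_assoc (y k * x) (z l), ← mul_assoc (z l) (z l), (hz l).2.1]
    have e2 : ∀ l, eps (z l) (z l * x * z l) = ∑ k, eps (z l) ((z l * y k) * (y k * x * z l)) := by
      intro l
      rw [← eps_sum (hz l) _ fun k _ => ⟨mul_mem (mul_mem (hz l).1 (hy k).1)
        (mul_mem (mul_mem (hy k).1 hx) (hz l).1), by simp only [← mul_assoc, (hz l).2.1],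
        by simp only [mul_assoc, (hz l).2.1]⟩]
      congr 1
      calc z l * x * z l = z l * (i * x) * z l := by rw [hix]
        _ = ∑ k, z l * y k * (x * z l) := by
            rw [← hsum, Finset.sum_mul, Finset.mul_sum, Finset.sum_mul]
            simp only [mul_assoc]
        _ = _ := Finset.sum_congr rfl fun k _ => by
            simp only [mul_assoc]
            rw [← mul_assoc (y k) (y k), (hy k).2.1]
    show ∑ k, (c (y k) : AlgInt ⧸ M) * eps (y k) (y k * x * y k) =
      ∑ l, (c (z l) : AlgInt ⧸ M) * eps (z l) (z l * x * z l)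
    simp only [e1, e2, Finset.mul_sum]
    rw [Finset.sum_comm]
    refine Finset.sum_congr rfl fun l _ => Finset.sum_congr rfl fun k _ => ?_
    obtain ⟨h1, h2⟩ := eps_comm (hy k) (hz l) (u := y k * x * z l) (v := z l * y k)
      (mul_mem (mul_mem (hy k).1 hx) (hz l).1) (mul_mem (hz l).1 (hy k).1)
      (by simp only [← mul_assoc, (hy k).2.1]) (by simp only [mul_assoc, (hz l).2.1])
      (by simp only [← mul_assoc, (hz l).2.1]) (by simp only [mul_assoc, (hy k).2.1])
    rw [← h1]
    rcases eq_or_ne (eps (y k) (y k * x * z l * (z l * y k))) 0 with h | h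
    · rw [h, mul_zero, mul_zero]
    · rw [hequiv _ _ (hy k) (hz l) (hiy k).1 (hiy k).2 (hiz l).1 (hiz l).2 (h2 h)]
  -- invariance under conjugation by `K`
  have hinv : ∀ t ∈ K, ∀ x, x ∈ fixedBy (AlgInt ⧸ M) K' → i * x = x → x * i = x →
      L y (conjEl t x) = L y x := by
    intro t ht x hx hix hxi
    have hti : conjEl t i = i := hi.1 t ht
    have hnt := hn ht
    have hz : ∀ k, IsPrim K' (conjEl t (y k)) := fun k => isPrim_conjEl (hy k) hnt
    have hxt : conjEl t x ∈ fixedBy (AlgInt ⧸ M) K' := fun h hh => by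
      have hm : t⁻¹ * h * t ∈ K' := (Subgroup.mem_normalizer_iff''.1 hnt h).1 hh
      rw [← BrauerPairs.conjEl_mul, show h * t = t * (t⁻¹ * h * t) by group, BrauerPairs.conjEl_mul,
        hx _ hm]
    rw [hindep (fun k => conjEl t (y k)) hz
      (fun k l h => by rw [← map_mul, horth k l h, map_zero]) (by rw [← map_sum, hsum, hti])
      (conjEl t x) hxt (by rw [← hti, ← map_mul, hix]) (by rw [← hti, ← map_mul, hxi])]
    refine Finset.sum_congr rfl fun k _ => ?_
    rw [hconj t ht _ (hy k) (hiy k).1 (hiy k).2]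
    congr 1
    have hc : InCorner K' (y k) (y k * x * y k) := ⟨mul_mem (mul_mem (hy k).1 hx) (hy k).1,
      by simp only [← mul_assoc, (hy k).2.1], by simp only [mul_assoc, (hy k).2.1]⟩
    rw [← map_mul, ← map_mul]
    refine eps_eq (hz k) ⟨?_, by rw [← map_mul, hc.2.1], by rw [← map_mul, hc.2.2]⟩ ?_
    · rw [map_mul, map_mul]
      exact mul_mem (mul_mem (hz k).1 hxt) (hz k).1
    · rw [← map_smul, ← map_sub]
      exact (eps_spec (hy k) hc).map (conjEl t)
  have h1 : L y i = ((∑ k, c (y k) : ℤ) : AlgInt ⧸ M) := by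
    rw [Int.cast_sum]
    refine Finset.sum_congr rfl fun k _ => ?_
    rw [(hiy k).2, (hy k).2.1, eps_self (hy k), mul_one]
  letI := Fintype.ofFinite (K ⧸ K'.subgroupOf K)
  have h2 : L y i = (Nat.card (K ⧸ K'.subgroupOf K) : AlgInt ⧸ M) * L y a := by
    have hlin : L y i = ∑ q : K ⧸ K'.subgroupOf K, L y (conjEl ((q.out : K) : G) a) := by
      conv_lhs => rw [← htr, relTr]
      show ∑ k, _ = ∑ q, ∑ k, _
      rw [Finset.sum_comm]
      refine Finset.sum_congr rfl fun k _ => ?_
      rw [← Finset.mul_sum, ← eps_sum (hy k) _ fun q _ => ?_, Finset.mul_sum, Finset.sum_mul]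
      refine ⟨mul_mem (mul_mem (hy k).1 fun h hh => ?_) (hy k).1,
        by simp only [← mul_assoc, (hy k).2.1], by simp only [mul_assoc, (hy k).2.1]⟩
      have hm : ((q.out : K) : G)⁻¹ * h * ((q.out : K) : G) ∈ K' :=
        (Subgroup.mem_normalizer_iff''.1 (hn (q.out : K).2) h).1 hh
      rw [← BrauerPairs.conjEl_mul, show h * ((q.out : K) : G) =
        ((q.out : K) : G) * (((q.out : K) : G)⁻¹ * h * ((q.out : K) : G)) by group,
        BrauerPairs.conjEl_mul, ha _ hm]
    rw [hlin, Finset.sum_congr rfl fun q _ => hinv _ (q.out : K).2 a ha hia hai, Finset.sum_const,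
      Finset.card_univ, nsmul_eq_mul, Nat.card_eq_fintype_card]
  rw [h1, (CharP.cast_eq_zero_iff (AlgInt ⧸ M) p _).2 hidx, zero_mul,
    CharP.intCast_eq_zero_iff (AlgInt ⧸ M) p] at h2
  exact h2

end Cfsg.Agent.Star
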